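import Cfsg.Agent.Lib.Invol.SECriterion.SmallType.Identity
import Cfsg.Agent.Lib.Invol.SECriterion.SameClass

/-!
# The strong embedding criterion, equal type: basic facts

Every bad involution centralizes all the conjugates of `z` at each of its fixed points.  Then all bad
involutions fix as many points and form one class.  If that number is two more than the number of
conjugates at a point, the group at a point is regular on the further fixed points of a bad involution.
-/

set_option autoImplicit false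
set_option linter.style.haveILetI false

namespace CfsgLib.SECrit.Eq

open CfsgLib.Invol Small

variable {G : Type*} [Group G] {M : Subgroup G} {z : G}

/-- The residue of equal type. -/
structure EqRes [Finite G] (M : Subgroup G) (z : G) : Prop where
  res : Res M z
  faith : ∀ g : G, (∀ a : G ⧸ M, g • a = a) → g = 1
  two_le : 2 ≤ deg M z
  full : ∀ (x : G) (p : G ⧸ M), Bad z x → x • p = p → cnt z x p = deg M z

/-- No two commuting bad involutions fix the same two points. -/
def NoKlein (M : Subgroup G) (z : G) : Prop :=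
  ∀ (x y : G) (a b : G ⧸ M), Bad z x → Bad z y → Commute x y → a ≠ b → x • a = a → x • b = b →
    y • a = a → y • b = b → x = y

variable [Finite G]

namespace EqRes

variable (h : EqRes M z)
include h

theorem commute_grp {x : G} (hx : Bad z x) {p : G ⧸ M} (hp : x • p = p) {d : G} (hd : d ∈ h.res.grp p) :
    Commute x d := by
  rcases hd with rfl | ⟨hd, hdp⟩
  · exact Commute.one_right x
  let f : CAt z ({x} : Set G) p → DAt z p := fun c => ⟨c.1, c.2.1, c.2.2.1⟩
  have hinj : Function.Injective f := fun a b hab => Subtype.ext (congrArg (fun c : DAt z p => c.1) hab)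
  have hbij : Function.Bijective f :=
    (Nat.bijective_iff_injective_and_card f).2 ⟨hinj, by rw [card_DAt]; exact h.full x p hx hp⟩
  obtain ⟨c, hc⟩ := hbij.2 ⟨d, hd, hdp⟩
  have hcd : c.1 = d := congrArg (fun c : DAt z p => c.1) hc
  exact hcd ▸ c.2.2.2 x rfl

/-- A non-trivial element of the group at `p` fixes only `p`. -/
theorem eq_of_grp_fix {p a : G ⧸ M} {d : G} (hd : d ∈ h.res.grp p) (hd1 : d ≠ 1) (ha : d • a = a) : a = p :=
  h.res.crit.fix_unique (hd.resolve_left hd1).1 ha (hd.resolve_left hd1).2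

theorem eq_one_of_grp_fix {p a : G ⧸ M} {d : G} (hd : d ∈ h.res.grp p) (hap : a ≠ p) (ha : d • a = a) :
    d = 1 :=
  by_contra fun hd1 => hap (h.eq_of_grp_fix hd hd1 ha)

theorem fix_mul_mem {x : G} (hx : Bad z x) {p : G ⧸ M} (hp : x • p = p) {d : G} (hd : d ∈ h.res.grp p)
    {a : G ⧸ M} (ha : x • a = a) : x • (d • a) = d • a := by
  rw [smul_smul, (h.commute_grp hx hp hd).eq, mul_smul, ha]

/-- The count of the equal type. -/
theorem card_points {x : G} (hx : Bad z x) :
    Nat.card (G ⧸ M) = fix M x + fix M x * deg M z * (fix M x - 1) := by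
  obtain ⟨p, q, -, hp, -⟩ := h.res.exists_pair hx
  have h1 := h.res.equal_identity hx hp (h.full x p hx hp) h.two_le
  have h2 := h.res.card_moved x
  omega

theorem fix_eq {x y : G} (hx : Bad z x) (hy : Bad z y) : fix M x = fix M y := by
  have h1 := h.card_points hx
  rw [h.card_points hy] at h1
  have mono : ∀ a b : ℕ, a < b → a + a * deg M z * (a - 1) < b + b * deg M z * (b - 1) := fun a b hab =>
    add_lt_add_of_lt_of_le hab (Nat.mul_le_mul (Nat.mul_le_mul_right _ hab.le) (by omega))
  rcases lt_trichotomy (fix M x) (fix M y) with hlt | he | hlt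
  · exact absurd h1.symm (mono _ _ hlt).ne
  · exact he
  · exact absurd h1 (mono _ _ hlt).ne

/-- **One class of bad involutions**, from: commuting ones differ by a conjugate of `z`. -/
theorem isConj_of_commute_mul
    (hcomm : ∀ x y : G, Bad z x → Bad z y → Commute x y → x ≠ y → IsConj z (x * y))
    {x y : G} (hx : Bad z x) (hy : Bad z y) : IsConj x y := by
  classical
  have hmul : ∀ x y : G, Bad z x → Bad z y → Commute x y → IsConj x y := by
    intro x y hx hy hc
    rcases eq_or_ne x y with rfl | hne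
    · exact IsConj.refl x
    obtain ⟨p, q, hpq, hp, hq⟩ := h.res.exists_pair hx
    obtain ⟨d, hd, hdp, -⟩ := h.res.crit.exists_commuting_invol hx.invol hp
    obtain ⟨e, ⟨he, hep⟩, hne'⟩ : ∃ e, (IsConj z e ∧ e • p = p) ∧ e ≠ d := by
      by_contra hh
      push Not at hh
      have : Subsingleton (DAt z p) := ⟨fun a b => Subtype.ext ((hh a.1 a.2).trans (hh b.1 b.2).symm)⟩
      have h2 := h.two_le
      have h3 : Nat.card (DAt z p) ≤ 1 := Finite.card_le_one_iff_subsingleton.2 this
      rw [card_DAt] at h3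
      omega
    have hxy : Commute x (x * y) := (Commute.refl x).mul_right hc
    have := h.res.crit.isConj_mul_member h.res.free hx.invol hpq hp hq hd he
      (h.commute_grp hx hp (Or.inr ⟨hd, hdp⟩)) (h.commute_grp hx hp (Or.inr ⟨he, hep⟩))
      (h.res.comm d e p hd he hdp hep) hne'.symm (hcomm x y hx hy hc hne) hxy
    rwa [← mul_assoc, invol_mul_self hx.invol, one_mul] at this
  by_contra hnc
  -- every member of the class of `y` shares a fixed point with `x`
  set Cy := {w : G // IsConj y w}
  have hbadC : ∀ w : Cy, Bad z w.1 := fun w => by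
    obtain ⟨g, hg⟩ := isConj_iff.1 w.2
    exact hg ▸ hy.conj g
  have hshare : ∀ w : Cy, ∃ a : G ⧸ M, x • a = a ∧ w.1 • a = a := by
    intro w
    have hw := hbadC w
    have heven : Even (orderOf (x * w.1)) := by
      rw [← Nat.not_odd_iff_even]
      exact fun hodd => hnc ((Invol.isConj_of_odd hx.invol hw.invol hodd).trans w.2.symm)
    set c := (x * w.1) ^ (orderOf (x * w.1) / 2)
    have hco : orderOf c = 2 := orderOf_pow_half heven
    have hcx : Commute c x := commute_pow_half (invol_conj_mul hx.invol hw.invol) heven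
    have hcw : Commute c w.1 := commute_pow_half (invol_conj_mul' hx.invol hw.invol) heven
    by_cases hcz : IsConj z c
    · obtain ⟨a, ha⟩ := h.res.crit.fix_exists hcz
      exact ⟨a, h.res.crit.smul_of_commute hcz hcx.symm ha, h.res.crit.smul_of_commute hcz hcw.symm ha⟩
    · exact absurd ((hmul x c hx ⟨hco, hcz⟩ hcx.symm).trans ((hmul c w.1 ⟨hco, hcz⟩ hw hcw).trans w.2.symm))
        hnc
  letI := Fintype.ofFinite Cy
  letI := Fintype.ofFinite (G ⧸ M)
  letI := Fintype.ofFinite {a : G ⧸ M // x • a = a}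
  -- the members of the class at one point
  obtain ⟨p, hp⟩ := exists_fix h.res.crit hy.invol
  set n := Nat.card {w : Cy // w.1 • p = p}
  have hn : ∀ a : G ⧸ M, Nat.card {w : Cy // w.1 • a = a} = n := by
    intro a
    obtain ⟨g, rfl⟩ := MulAction.exists_smul_eq G p a
    symm
    exact Nat.card_congr
      { toFun := fun w => ⟨⟨g * w.1.1 * g⁻¹, w.1.2.trans (isConj_iff.2 ⟨g, rfl⟩)⟩, by
          show (g * w.1.1 * g⁻¹) • g • p = g • p
          rw [smul_smul, inv_mul_cancel_right, mul_smul, w.2]⟩
        invFun := fun w => ⟨⟨g⁻¹ * w.1.1 * g, w.1.2.trans (isConj_iff.2 ⟨g⁻¹, by rw [inv_inv]⟩)⟩, by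
          show (g⁻¹ * w.1.1 * g) • p = p
          rw [mul_smul, mul_smul, w.2, inv_smul_smul]⟩
        left_inv := fun w => Subtype.ext (Subtype.ext (by simp [mul_assoc]))
        right_inv := fun w => Subtype.ext (Subtype.ext (by simp [mul_assoc])) }
  have hnpos : 0 < n := by
    haveI : Nonempty {w : Cy // w.1 • p = p} := ⟨⟨⟨y, IsConj.refl y⟩, hp⟩⟩
    exact Nat.card_pos
  have hfw : ∀ w : Cy, fix M w.1 = fix M x := fun w => h.fix_eq (hbadC w) hx
  have e1 : Nat.card Cy * fix M x = Nat.card (G ⧸ M) * n := by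
    have h1 : Nat.card (Σ w : Cy, {a : G ⧸ M // w.1 • a = a}) =
        Nat.card (Σ a : G ⧸ M, {w : Cy // w.1 • a = a}) :=
      Nat.card_congr ⟨fun s => ⟨s.2.1, s.1, s.2.2⟩, fun s => ⟨s.2.1, s.1, s.2.2⟩, fun _ => rfl, fun _ => rfl⟩
    rw [Nat.card_sigma, Finset.sum_congr rfl (fun w _ => (show Nat.card {a : G ⧸ M // (w : Cy).1 • a = a} =
      fix M x from hfw w)),
      Finset.sum_const, Nat.card_sigma,
      Finset.sum_congr rfl fun a _ => hn a, Finset.sum_const] at h1
    simpa [Finset.card_univ, smul_eq_mul, Nat.card_eq_fintype_card] using h1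
  have e2 : Nat.card Cy ≤ fix M x * n := by
    choose a hax haw using hshare
    have h1 : Nat.card Cy ≤ Nat.card (Σ a : {a : G ⧸ M // x • a = a}, {w : Cy // w.1 • a.1 = a.1}) :=
      Nat.card_le_card_of_injective (fun w => ⟨⟨a w, hax w⟩, w, haw w⟩) fun v w hvw =>
        congrArg (fun s : Σ a : {a : G ⧸ M // x • a = a}, {w : Cy // w.1 • a.1 = a.1} => s.2.1) hvw
    rw [Nat.card_sigma, Finset.sum_congr rfl fun b _ => hn b.1, Finset.sum_const] at h1
    simpa [Finset.card_univ, smul_eq_mul, fix, Nat.card_eq_fintype_card] using h1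
  have e3 : Nat.card (G ⧸ M) * n ≤ fix M x * fix M x * n := by
    rw [← e1]
    calc Nat.card Cy * fix M x ≤ fix M x * n * fix M x := Nat.mul_le_mul_right _ e2
      _ = _ := by ring
  have e4 := Nat.le_of_mul_le_mul_right e3 hnpos
  rw [h.card_points hx] at e4
  obtain ⟨s, hs⟩ := Nat.exists_eq_add_of_le (h.res.two_le_fix hx)
  obtain ⟨u, hu⟩ := Nat.exists_eq_add_of_le h.two_le
  rw [hs, hu, show 2 + s - 1 = 1 + s by omega] at e4
  have h5 : (2 + s) + (2 + s) * 2 * (1 + s) ≤ (2 + s) + (2 + s) * (2 + u) * (1 + s) := by gcongr; omega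
  nlinarith

section Regular

variable (hfix : ∀ x : G, Bad z x → fix M x = deg M z + 2)
include hfix

/-- The group at `p` is transitive on the further fixed points of a bad involution. -/
theorem exists_grp_smul {x : G} (hx : Bad z x) {p a b : G ⧸ M} (hp : x • p = p) (ha : x • a = a)
    (hap : a ≠ p) (hb : x • b = b) (hbp : b ≠ p) : ∃ e ∈ h.res.grp p, e • a = b := by
  classical
  let f : h.res.grp p → {c : G ⧸ M // x • c = c ∧ c ≠ p} := fun e => ⟨(e : G) • a, h.fix_mul_mem hx hp e.2 ha,
    fun hh => hap (smul_left_cancel (e : G) (hh.trans (h.res.grp_smul e.2).symm))⟩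
  have hinj : Function.Injective f := by
    intro e e' hee
    have h1 : (e : G) • a = (e' : G) • a := congrArg Subtype.val hee
    have h2 : ((e' : G)⁻¹ * e) • a = a := by rw [mul_smul, h1, inv_smul_smul]
    exact Subtype.ext (inv_mul_eq_one.1 (h.eq_one_of_grp_fix (mul_mem (inv_mem e'.2) e.2) hap h2)).symm
  have hcard : Nat.card {c : G ⧸ M // x • c = c ∧ c ≠ p} + 1 = fix M x := by
    rw [fix, ← Finite.card_option, ← Nat.card_congr (Equiv.optionSubtypeNe
      (⟨p, hp⟩ : {c : G ⧸ M // x • c = c}))]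
    exact Nat.card_congr (Equiv.optionCongr
      ⟨fun c => ⟨⟨c.1, c.2.1⟩, fun hh => c.2.2 (congrArg Subtype.val hh)⟩,
        fun c => ⟨c.1.1, c.1.2, fun hh => c.2 (Subtype.ext hh)⟩, fun _ => rfl, fun _ => rfl⟩)
  have hbij : Function.Bijective f :=
    (Nat.bijective_iff_injective_and_card f).2 ⟨hinj, by
      rw [h.res.card_grp p]
      have := hfix x hx
      omega⟩
  obtain ⟨e, he⟩ := hbij.2 ⟨b, hb, hbp⟩
  exact ⟨e, e.2, congrArg Subtype.val he⟩

variable (hK : NoKlein M z)
include hK

/-- **The centralizer of a bad involution and the group at one of its points, fixing two of its points.** -/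
theorem eq_one_or_self {x g : G} (hx : Bad z x) {p a : G ⧸ M} (hp : x • p = p) (ha : x • a = a) (hap : a ≠ p)
    (hgp : g • p = p) (hga : g • a = a) (hgx : Commute g x) (hgE : ∀ e ∈ h.res.grp p, Commute g e) :
    g = 1 ∨ g = x := by
  -- `g` fixes every fixed point of `x`
  have hgF : ∀ b : G ⧸ M, x • b = b → g • b = b := by
    intro b hb
    by_cases hbp : b = p
    · rw [hbp, hgp]
    obtain ⟨e, he, rfl⟩ := h.exists_grp_smul hfix hx hp ha hap hb hbp
    rw [smul_smul, (hgE e he).eq, mul_smul, hga]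
  -- and centralizes every group at such a point
  have hgD : ∀ b : G ⧸ M, x • b = b → ∀ d ∈ h.res.grp b, Commute g d := by
    intro b hb d hd
    obtain ⟨c, hcb, hc⟩ : ∃ c : G ⧸ M, c ≠ b ∧ x • c = c := by
      by_cases hbp : b = p
      · exact ⟨a, fun hh => hap (hh.trans hbp), ha⟩
      · exact ⟨p, fun hh => hbp hh.symm, hp⟩
    have hdb : g * d * g⁻¹ ∈ h.res.grp b := h.res.grp_conj (hgF b hb) hd
    have h1 : (d⁻¹ * (g * d * g⁻¹)) • c = c := by
      rw [mul_smul, mul_smul, mul_smul, inv_smul_eq_iff.2 (hgF c hc).symm,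
        hgF _ (h.fix_mul_mem hx hb hd hc), inv_smul_smul]
    exact mul_inv_eq_iff_eq_mul.1
      (inv_mul_eq_one.1 (h.eq_one_of_grp_fix (mul_mem (inv_mem hd) hdb) hcb h1)).symm
  have hsq : g * g = 1 := by
    refine h.faith _ fun c => ?_
    by_cases hc : x • c = c
    · rw [mul_smul, hgF c hc, hgF c hc]
    obtain ⟨d, hd, hdc, hxd⟩ := h.res.crit.exists_commuting_swap_of_moved hx.invol hc
    obtain ⟨b, hb⟩ := h.res.crit.fix_exists hd
    have hxb : x • b = b := h.res.crit.smul_of_commute hd hxd hb
    have hyc : (x * d) • c = c := by rw [mul_smul, hdc, smul_smul, invol_mul_self hx.invol, one_smul]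
    have hy := h.res.bad_mul hx hd hxd
    have hyb : (x * d) • b = b := by rw [mul_smul, hb, hxb]
    have hcb : c ≠ b := fun hh => hc (hh ▸ hxb)
    have hgd : Commute g d := hgD b hxb d (Or.inr ⟨hd, hb⟩)
    have hgy : Commute g (x * d) := hgx.mul_right hgd
    obtain ⟨e, he, hec⟩ := h.exists_grp_smul hfix hy hyb hyc hcb (b := g • c)
      (by rw [smul_smul, ← hgy.eq, mul_smul, hyc])
      (fun hh => hcb (smul_left_cancel g (hh.trans (hgF b hxb).symm)))
    rw [mul_smul, ← hec, smul_smul, (hgD b hxb e he).eq, mul_smul, ← hec, smul_smul, h.res.grp_sq he,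
      one_smul]
  by_cases hg1 : g = 1
  · exact Or.inl hg1
  refine Or.inr (hK g x p a ⟨invol_iff.2 ⟨hsq, hg1⟩, fun hh => hap (h.res.crit.fix_unique hh hga hgp)⟩ hx hgx
    hap.symm hgp hga hp ha)

/-- An element centralizing a bad involution and the group at one of its points. -/
theorem mem_grp_or_mul {x g : G} (hx : Bad z x) {p : G ⧸ M} (hp : x • p = p) (hgp : g • p = p)
    (hgx : Commute g x) (hgE : ∀ e ∈ h.res.grp p, Commute g e) : ∃ e ∈ h.res.grp p, g = e ∨ g = e * x := by
  obtain ⟨a, hap, ha⟩ := h.res.bad_two_fix hx hp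
  obtain ⟨e, he, hea⟩ := h.exists_grp_smul hfix hx hp ha hap (b := g • a)
    (by rw [smul_smul, ← hgx.eq, mul_smul, ha])
    (fun hh => hap (smul_left_cancel g (hh.trans hgp.symm)))
  have h1 : (e⁻¹ * g) • a = a := by rw [mul_smul, ← hea, inv_smul_smul]
  rcases h.eq_one_or_self hfix hK hx hp ha hap (g := e⁻¹ * g)
      (by rw [mul_smul, hgp, inv_smul_eq_iff, h.res.grp_smul he]) h1
      ((h.commute_grp hx hp he).symm.inv_left.mul_left hgx)
      (fun d hd => ((h.res.grp_commute he hd).inv_left).mul_left (hgE d hd)) with h2 | h2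
  · exact ⟨e, he, Or.inl (inv_mul_eq_one.1 h2).symm⟩
  · exact ⟨e, he, Or.inr (inv_mul_eq_iff_eq_mul.1 h2)⟩

/-- Commuting bad involutions differ by a conjugate of `z`. -/
theorem isConj_mul_of_commute {x y : G} (hx : Bad z x) (hy : Bad z y) (hc : Commute x y) (hne : x ≠ y) :
    IsConj z (x * y) := by
  have hA : IsPGroup 2 (Subgroup.closure ({x, y} : Set G)) :=
    two_group_of_pair hx.invol hy.invol (s := 1) (by
      rw [pow_one]; exact mul_conj_invol hx.invol hy.invol hc hne |>.trans rfl)
  obtain ⟨p, hp⟩ := exists_common_fix h.res.crit hA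
  have hxp := hp x (Subgroup.subset_closure (by simp))
  have hyp := hp y (Subgroup.subset_closure (by simp))
  obtain ⟨e, he, hy'⟩ := h.mem_grp_or_mul hfix hK hx hxp hyp hc.symm fun d hd => h.commute_grp hy hyp hd
  rcases hy' with rfl | rfl
  · rcases he with he | ⟨he, -⟩
    · exact absurd he (invol_ne_one hy.invol)
    · exact absurd he hy.not_conj
  · have he1 : e ≠ 1 := fun hh => hne (by rw [hh, one_mul])
    rw [(h.commute_grp hx hxp he).symm.eq, ← mul_assoc, invol_mul_self hx.invol, one_mul]
    exact (he.resolve_left he1).1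

/-- **One class of bad involutions.** -/
theorem isConj_bad {x y : G} (hx : Bad z x) (hy : Bad z y) : IsConj x y :=
  h.isConj_of_commute_mul (fun _ _ hx hy hc hne => h.isConj_mul_of_commute hfix hK hx hy hc hne) hx hy

end Regular

end EqRes

end CfsgLib.SECrit.Eq
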