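import Cfsg.Agent.Lib.Invol.SECriterion.EqType.GroupAlgebraPairing
import Mathlib.Algebra.Module.ZMod
import Mathlib.GroupTheory.Solvable
import Mathlib.GroupTheory.Sylow

/-!
# The strong embedding criterion: one central class

`N` is a soluble group of odd order acting linearly on `V` and on `E` over the field with two
elements, `B` an equivariant alternating form on `V` with values in `E`, non-zero on two distinct
members of an orbit `Ω`.  If the stabilizer of `x ∈ Ω` contains a subgroup `C` transitive on the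
non-zero vectors of `E`, semiregular modulo the kernel on `E` on `Ω - x` and fixing only `0` and `x`
in the span of `Ω`, then `Ω` is `{x}`.
-/

set_option autoImplicit false
set_option linter.style.haveILetI false

open scoped commutatorElement

namespace CfsgLib.SECrit

section

variable {N : Type*} [Group N] [Finite N]

/-- A normal subgroup of a soluble group moving a point contains a normal subgroup of the group moving a
point whose image is abelian of prime exponent. -/
theorem exists_normal_prime_image_le {X : Type*} [Finite X] (hsol : Group.IsSolvable N) (π : N →* Equiv.Perm X)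
    {H : Subgroup N} (hH : H.Normal) (hHπ : ¬ H ≤ π.ker) :
    ∃ (A : Subgroup N) (p : ℕ), A ≤ H ∧ A.Normal ∧ p.Prime ∧ (∃ a ∈ A, π a ≠ 1) ∧
      (∀ a ∈ A, π a ^ p = 1) ∧ ∀ a ∈ A, ∀ b ∈ A, Commute (π a) (π b) := by
  classical
  haveI := hsol
  obtain ⟨A, ⟨hAn, hAK, hAH⟩, hmin⟩ :=
    (Set.toFinite {A : Subgroup N | A.Normal ∧ ¬ A ≤ π.ker ∧ A ≤ H}).exists_minimal ⟨H, hH, hHπ, le_rfl⟩
  have hbelow : ∀ B : Subgroup N, B.Normal → B < A → B ≤ π.ker := fun B hB hlt => by
    by_contra hBK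
    exact absurd (hmin ⟨hB, hBK, hlt.le.trans hAH⟩ hlt.le) hlt.not_ge
  have hAne : A ≠ ⊥ := fun h => hAK (h ▸ bot_le)
  haveI := hAn
  have hcomm : ∀ a ∈ A, ∀ b ∈ A, Commute (π a) (π b) := by
    intro a ha b hb
    have hk : π ⁅a, b⁆ = 1 := hbelow ⁅A, A⁆ inferInstance
      (Group.IsSolvable.commutator_lt_of_ne_bot hAne) (Subgroup.commutator_mem_commutator ha hb)
    rw [commutatorElement_def, map_mul, map_mul, map_mul, map_inv, map_inv, mul_inv_eq_one,
      mul_inv_eq_iff_eq_mul] at hk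
    exact hk
  obtain ⟨a0, ha0, ha0'⟩ : ∃ a ∈ A, π a ≠ 1 := by
    by_contra h
    push Not at h
    exact hAK h
  obtain ⟨p, hp, hpd⟩ := Nat.exists_prime_and_dvd (show orderOf (π a0) ≠ 1 from
    fun h => ha0' (orderOf_eq_one_iff.1 h))
  obtain ⟨j, hj⟩ := hpd
  let P : Subgroup N :=
    { carrier := {a | a ∈ A ∧ π a ^ p = 1}
      one_mem' := ⟨A.one_mem, by rw [map_one, one_pow]⟩
      mul_mem' := fun {a b} ha hb => ⟨A.mul_mem ha.1 hb.1, by
        rw [map_mul, (hcomm a ha.1 b hb.1).mul_pow, ha.2, hb.2, one_mul]⟩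
      inv_mem' := fun {a} ha => ⟨A.inv_mem ha.1, by rw [map_inv, inv_pow, ha.2, inv_one]⟩ }
  have hP : P.Normal := ⟨fun a ha g => ⟨hAn.conj_mem a ha.1 g, by
    rw [map_mul, map_mul, map_inv, conj_pow, ha.2, mul_one, mul_inv_cancel]⟩⟩
  refine ⟨A, p, hAH, hAn, hp, ⟨a0, ha0, ha0'⟩, ?_, hcomm⟩
  rcases eq_or_lt_of_le (show P ≤ A from fun a h => h.1) with h | h
  · exact fun b hb => (h.symm ▸ hb : b ∈ P).2
  · have hmem : a0 ^ j ∈ P := ⟨A.pow_mem ha0 j, by
      rw [map_pow, ← pow_mul, mul_comm, ← hj, pow_orderOf_eq_one]⟩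
    have h1 : π (a0 ^ j) = 1 := hbelow P hP h hmem
    rw [map_pow] at h1
    have h2 := orderOf_dvd_of_pow_eq_one h1
    rw [hj] at h2
    rcases Nat.eq_zero_or_pos j with rfl | hj0
    · exact absurd hj (by rw [Nat.mul_zero]; exact (orderOf_pos (π a0)).ne')
    · exact absurd (Nat.le_of_dvd hj0 h2) (by
        have := hp.two_le
        nlinarith)

omit [Finite N] in
theorem not_top_le_ker {X : Type*} {π : N →* Equiv.Perm X} (hπ : π ≠ 1) : ¬ (⊤ : Subgroup N) ≤ π.ker :=
  fun h => hπ (MonoidHom.ext fun n => h (Subgroup.mem_top n))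

/-- A soluble group moving a point has a normal subgroup moving a point whose image is abelian of
prime exponent. -/
theorem exists_normal_prime_image {X : Type*} [Finite X] (hsol : Group.IsSolvable N) (π : N →* Equiv.Perm X)
    (hπ : π ≠ 1) : ∃ (A : Subgroup N) (p : ℕ), A.Normal ∧ p.Prime ∧ (∃ a ∈ A, π a ≠ 1) ∧
      (∀ a ∈ A, π a ^ p = 1) ∧ ∀ a ∈ A, ∀ b ∈ A, Commute (π a) (π b) := by
  obtain ⟨A, p, -, h⟩ := exists_normal_prime_image_le hsol π (inferInstance : (⊤ : Subgroup N).Normal)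
    (not_top_le_ker hπ)
  exact ⟨A, p, h⟩

omit [Finite N] in
/-- A normal subgroup fixing a non-zero vector is trivial as soon as some subgroup permutes the
non-zero vectors transitively. -/
theorem eq_one_of_fix {E : Type*} [AddCommGroup E] [Module (ZMod 2) E] (η : N →* (E ≃ₗ[ZMod 2] E))
    (C : Subgroup N) (hCE : ∀ e f : E, e ≠ 0 → f ≠ 0 → ∃ c ∈ C, η c e = f)
    {A : Subgroup N} (hA : A.Normal) {e : E} (he : e ≠ 0) (hfe : ∀ n ∈ A, η n e = e) :
    ∀ n ∈ A, η n = 1 := by
  intro n hn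
  refine LinearEquiv.ext fun f => ?_
  rcases eq_or_ne f 0 with rfl | hf
  · rw [map_zero]; rfl
  obtain ⟨c, -, rfl⟩ := hCE e f he hf
  show η n (η c e) = η c e
  have h := hfe _ (hA.conj_mem n hn c⁻¹)
  rw [inv_inv, map_mul, map_mul] at h
  calc η n (η c e) = (η c * (η c⁻¹ * η n * η c)) e := by
        rw [← mul_assoc, ← mul_assoc, ← map_mul, mul_inv_cancel, map_one, one_mul]
        rfl
    _ = η c e := by
        show η c ((η c⁻¹ * η n * η c) e) = η c e
        rw [h]

end

/-- Counting: a set with an action all of whose stabilizers lie in the stabilizer of a point of a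
transitive set has size divisible by the size of the latter. -/
theorem card_dvd_of_stabilizer_le {C T F : Type*} [Group C] [Finite C] [Finite T] [MulAction C T]
    [MulAction C F] (f : F) (htrans : MulAction.orbit C f = Set.univ)
    (hle : ∀ t : T, MulAction.stabilizer C t ≤ MulAction.stabilizer C f) : Nat.card F ∣ Nat.card T := by
  classical
  letI := Fintype.ofFinite (MulAction.orbitRel.Quotient C T)
  rw [Nat.card_congr (MulAction.selfEquivSigmaOrbits C T), Nat.card_sigma]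
  refine Finset.dvd_sum fun ω _ => ?_
  rw [Nat.card_coe_set_eq, ← MulAction.index_stabilizer]
  have hF : Nat.card F = (MulAction.stabilizer C f).index := by
    rw [MulAction.index_stabilizer, htrans, Set.ncard_univ]
  rw [hF]
  exact Subgroup.index_dvd_of_le (hle _)

/-- **One central class.** -/
theorem eq_of_mem_orbit_of_alternating {N V E : Type*} [Group N] [Finite N] [AddCommGroup V]
    [Module (ZMod 2) V] [AddCommGroup E] [Module (ZMod 2) E] [Finite E] (hN : Odd (Nat.card N))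
    (hsol : Group.IsSolvable N) (ρ : N →* (V ≃ₗ[ZMod 2] V)) (η : N →* (E ≃ₗ[ZMod 2] E))
    (B : V →ₗ[ZMod 2] V →ₗ[ZMod 2] E) (hB : ∀ n u v, η n (B u v) = B (ρ n u) (ρ n v))
    (halt : ∀ v, B v v = 0) (Ω : Set V) [Finite Ω] (hΩ : ∀ n, ∀ v ∈ Ω, ρ n v ∈ Ω)
    (htrans : ∀ v ∈ Ω, ∀ w ∈ Ω, ∃ n, ρ n v = w) (hne : ∀ v ∈ Ω, ∀ w ∈ Ω, v ≠ w → B v w ≠ 0)
    {x : V} (hx : x ∈ Ω) (C : Subgroup N) (hCx : ∀ c ∈ C, ρ c x = x)
    (hCE : ∀ e f : E, e ≠ 0 → f ≠ 0 → ∃ c ∈ C, η c e = f)
    (hsemi : ∀ c ∈ C, ∀ v ∈ Ω, v ≠ x → ρ c v = v → η c = 1)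
    (hfix : ∀ v ∈ Submodule.span (ZMod 2) Ω, (∀ c ∈ C, ρ c v = v) → v = 0 ∨ v = x) :
    ∀ v ∈ Ω, v = x := by
  classical
  by_contra hcon
  push Not at hcon
  obtain ⟨w, hw, hwx⟩ := hcon
  have hsymmB : ∀ u v, B u v = B v u := by
    intro u v
    have h := halt (u + v)
    simp only [map_add, LinearMap.add_apply, halt, zero_add, add_zero] at h
    have h2 : B u v + B v u = 0 := by rw [add_comm]; exact h
    rw [eq_neg_of_add_eq_zero_left h2]
    exact ZModModule.neg_eq_self _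
  have he0 : B x w ≠ 0 := hne x hx w hw hwx.symm
  -- the permutations of `Ω`
  letI act : MulAction N Ω :=
    { smul := fun n v => ⟨ρ n v.1, hΩ n v.1 v.2⟩
      one_smul := fun v => Subtype.ext (show ρ 1 v.1 = v.1 by rw [map_one]; rfl)
      mul_smul := fun a b v => Subtype.ext (show ρ (a * b) v.1 = ρ a (ρ b v.1) by rw [map_mul]; rfl) }
  let π : N →* Equiv.Perm Ω := MulAction.toPermHom N Ω
  have hπv : ∀ n (v : Ω), ((π n) v).1 = ρ n v.1 := fun _ _ => rfl
  have hπone : ∀ n, π n = 1 → ∀ v ∈ Ω, ρ n v = v := fun n hn v hv => by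
    rw [← hπv n ⟨v, hv⟩, hn]; rfl
  have hKE : ∀ n ∈ π.ker, η n = 1 := eq_one_of_fix η C hCE inferInstance he0 fun n hn => by
    rw [hB, hπone n hn x hx, hπone n hn w hw]
  have hπ1 : π ≠ 1 := fun h => by
    obtain ⟨n, hn⟩ := htrans x hx w hw
    exact hwx (hn ▸ hπone n (by rw [h]; rfl) x hx)
  obtain ⟨A, p, hAn, hp, ⟨a1, ha1, ha1'⟩, hexp, hcomm⟩ := exists_normal_prime_image hsol π hπ1
  haveI := Fact.mk hp
  -- `A` moves `x`
  obtain ⟨a0, ha0, ha0x⟩ : ∃ a ∈ A, ρ a x ≠ x := by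
    by_contra h
    push Not at h
    refine ha1' (Equiv.ext fun v => Subtype.ext ?_)
    obtain ⟨n, hn⟩ := htrans x hx v.1 v.2
    show ρ a1 v.1 = v.1
    have h1 := h _ (hAn.conj_mem a1 ha1 n⁻¹)
    rw [inv_inv] at h1
    calc ρ a1 v.1 = ρ (a1 * n) x := by rw [map_mul, ← hn]; rfl
      _ = ρ (n * (n⁻¹ * a1 * n)) x := by rw [show a1 * n = n * (n⁻¹ * a1 * n) by group]
      _ = v.1 := by
        rw [map_mul]
        show ρ n (ρ (n⁻¹ * a1 * n) x) = v.1
        rw [h1, hn]
  -- the image of `A`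
  let Ab : Subgroup (Equiv.Perm Ω) := A.map π
  have hAbcomm : ∀ a b : Ab, a * b = b * a := by
    rintro ⟨_, a, ha, rfl⟩ ⟨_, b, hb, rfl⟩
    exact Subtype.ext (hcomm a ha b hb)
  have hAbp : IsPGroup p Ab := by
    rintro ⟨_, b, hb, rfl⟩
    refine ⟨1, Subtype.ext ?_⟩
    show π b ^ (p ^ 1) = 1
    rw [pow_one]
    exact hexp b hb
  let x' : Ω := ⟨x, hx⟩
  let O : Set Ω := MulAction.orbit Ab x'
  have hmemO : ∀ a ∈ A, (π a) x' ∈ O := fun a ha => ⟨⟨π a, a, ha, rfl⟩, rfl⟩
  have hOC : ∀ c ∈ C, ∀ v ∈ O, c • v ∈ O := by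
    rintro c hc v ⟨⟨_, a, ha, rfl⟩, rfl⟩
    have h := hmemO _ (hAn.conj_mem a ha c)
    have he : (π (c * a * c⁻¹)) x' = c • ((π a) x') := by
      refine Subtype.ext ?_
      show ρ (c * a * c⁻¹) x = ρ c (ρ a x)
      rw [map_mul, map_mul]
      show ρ c (ρ a (ρ c⁻¹ x)) = _
      rw [hCx _ (C.inv_mem hc)]
    rw [he] at h
    exact h
  -- `p` does not divide the number of non-zero vectors of `E`
  have hpE : ¬ p ∣ Nat.card {e : E // e ≠ 0} := by
    let T := {v : Ω // v ∈ O ∧ v ≠ x'}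
    letI : MulAction C T :=
      { smul := fun c v => ⟨(c : N) • v.1, hOC c c.2 _ v.2.1, fun h => v.2.2 (by
          have h1 := congrArg (fun u : Ω => ((c : N)⁻¹) • u) h
          simp only [inv_smul_smul] at h1
          rw [h1]
          exact Subtype.ext (hCx _ (C.inv_mem c.2)))⟩
        one_smul := fun v => Subtype.ext (one_smul N v.1)
        mul_smul := fun a b v => Subtype.ext (mul_smul (a : N) (b : N) v.1) }
    letI : MulAction C {e : E // e ≠ 0} :=
      { smul := fun c e => ⟨η c e.1, fun h => e.2 ((η c).map_eq_zero_iff.1 h)⟩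
        one_smul := fun e => Subtype.ext
          (show η ((1 : C) : N) e.1 = e.1 by rw [OneMemClass.coe_one, map_one]; rfl)
        mul_smul := fun a b e => Subtype.ext (show η ((a * b : C) : N) e.1 = η a (η b e.1) by
          rw [Subgroup.coe_mul, map_mul]; rfl) }
    have hdvd : Nat.card {e : E // e ≠ 0} ∣ Nat.card T := by
      refine card_dvd_of_stabilizer_le (C := C) (T := T) (⟨B x w, he0⟩ : {e : E // e ≠ 0})
        (Set.eq_univ_of_forall fun f => ?_) fun v c hc => Subtype.ext ?_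
      · obtain ⟨c, hc, h⟩ := hCE _ _ he0 f.2
        exact ⟨⟨c, hc⟩, Subtype.ext h⟩
      · show η (c : N) (B x w) = B x w
        rw [hsemi c c.2 _ v.1.2 (fun h => v.2.2 (Subtype.ext h)) (congrArg (fun u : T => u.1.1) hc)]
        rfl
    intro h
    obtain ⟨k, hk⟩ := hAbp.card_orbit x'
    have hT := h.trans hdvd
    have hcardO : Nat.card O = Nat.card T + 1 := by
      rw [show Nat.card O = O.ncard from Nat.card_coe_set_eq O,
        show Nat.card T = (O \ {x'}).ncard from Nat.card_coe_set_eq (O \ {x'})]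
      exact (Set.ncard_sdiff_singleton_add_one (MulAction.mem_orbit_self x') (Set.toFinite O)).symm
    rcases Nat.eq_zero_or_pos k with rfl | hk0
    · have h1 : Nat.card T = 0 := by
        rw [pow_zero, show Nat.card (MulAction.orbit Ab x') = Nat.card T + 1 from hcardO] at hk
        omega
      haveI : Nonempty T := ⟨⟨(π a0) x', hmemO a0 ha0, fun he => ha0x (congrArg Subtype.val he)⟩⟩
      exact absurd h1 Nat.card_pos.ne'
    · have h1 : p ∣ Nat.card O := by
        rw [show Nat.card O = p ^ k from hk]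
        exact dvd_pow_self p hk0.ne'
      rw [hcardO] at h1
      exact hp.one_lt.ne' (Nat.dvd_one.1 ((Nat.dvd_add_right hT).1 h1))
  -- so `A` is trivial on `E`
  have hηA : ∀ a ∈ A, η a = 1 := by
    have hPG : IsPGroup p (A.map η) := by
      rintro ⟨_, a, ha, rfl⟩
      refine ⟨1, Subtype.ext ?_⟩
      show η a ^ (p ^ 1) = 1
      rw [pow_one, ← map_pow]
      refine hKE _ (show π (a ^ p) = 1 from ?_)
      rw [map_pow]
      exact hexp a ha
    letI : MulAction (A.map η) {e : E // e ≠ 0} :=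
      { smul := fun g e => ⟨g.1 e.1, fun h => e.2 (g.1.map_eq_zero_iff.1 h)⟩
        one_smul := fun e => Subtype.ext rfl
        mul_smul := fun g k e => Subtype.ext rfl }
    obtain ⟨e, he⟩ := hPG.nonempty_fixed_point_of_prime_not_dvd_card _ hpE
    exact eq_one_of_fix η C hCE hAn e.2 fun n hn => congrArg Subtype.val (he ⟨η n, n, hn, rfl⟩)
  -- apply the pairing lemma
  letI : CommGroup Ab := { (inferInstance : Group Ab) with mul_comm := hAbcomm }
  have hconj : ∀ (c : C) (a : Ab), π c * a.1 * (π c)⁻¹ ∈ Ab := by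
    rintro c ⟨_, a, ha, rfl⟩
    exact ⟨_, hAn.conj_mem a ha c, by rw [map_mul, map_mul, map_inv]⟩
  let θe : C → MulAut Ab := fun c =>
    { toFun := fun a => ⟨π c * a.1 * (π c)⁻¹, hconj c a⟩
      invFun := fun a => ⟨π (c⁻¹ : C) * a.1 * (π (c⁻¹ : C))⁻¹, hconj c⁻¹ a⟩
      left_inv := fun a => Subtype.ext (by simp [mul_assoc, map_inv])
      right_inv := fun a => Subtype.ext (by simp [mul_assoc, map_inv])
      map_mul' := fun a b => Subtype.ext (by simp [mul_assoc]) }
  let θ : C →* MulAut Ab := MonoidHom.mk' θe fun c d =>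
    MulEquiv.ext fun a => Subtype.ext (by simp [θe, mul_assoc])
  let vx : Ab → V := fun a => ((a : Equiv.Perm Ω) x').1
  let Ra : Ab → (V →ₗ[ZMod 2] V) := fun a => (ρ a.2.choose).toLinearMap
  have hRa : ∀ a b, Ra a (vx b) = vx (a * b) := fun a b => by
    show ρ a.2.choose (vx b) = ((a : Equiv.Perm Ω) ((b : Equiv.Perm Ω) x')).1
    rw [← hπv, a.2.choose_spec.2]
  have hspan : Submodule.span (ZMod 2) (Set.range vx) ≤ Submodule.span (ZMod 2) Ω :=
    Submodule.span_mono (Set.range_subset_iff.2 fun a => ((a : Equiv.Perm Ω) x').2)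
  have hsymm : ∀ a : Ab, B x (vx a⁻¹) = B x (vx a) := by
    rintro ⟨_, a, ha, rfl⟩
    show B x (((π a)⁻¹ x').1) = B x (ρ a x)
    rw [← map_inv, hπv]
    have h := hB a x (ρ a⁻¹ x)
    rw [hηA a ha, show ρ a (ρ a⁻¹ x) = x by
      show (ρ a * ρ a⁻¹) x = x
      rw [← map_mul, mul_inv_cancel, map_one]; rfl] at h
    rw [hsymmB x (ρ a x)]
    exact h
  have hfin := pairing_const_module (hN.of_dvd_nat ((A.card_map_dvd π).trans A.card_subgroup_dvd_card))
    (hN.of_dvd_nat C.card_subgroup_dvd_card) θ vx Ra hRa (fun c => (ρ (c : N)).toLinearMap)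
    (fun c a => by
      show ρ c (vx a) = ((π c) (a.1 ((π c)⁻¹ x'))).1
      rw [show (π c)⁻¹ x' = x' from by rw [← map_inv]; exact Subtype.ext (hCx _ (C.inv_mem c.2))]
      rfl)
    (B x) hsymm (fun v hv hc => hfix v (hspan hv) fun c hc' => hc ⟨c, hc'⟩) ⟨π a0, a0, ha0, rfl⟩
  exact hne x hx (ρ a0 x) (hΩ a0 x hx) ha0x.symm (hfin.trans (halt x))

end CfsgLib.SECrit
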