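import Mathlib.Algebra.MonoidAlgebra.Basic
import Mathlib.Algebra.MonoidAlgebra.Module
import Mathlib.Algebra.Polynomial.Monic
import Mathlib.Algebra.Polynomial.Roots
import Mathlib.RingTheory.Ideal.Quotient.Basic
import Mathlib.RingTheory.Nilpotent.Lemmas
import Mathlib.GroupTheory.OrderOfElement
import Mathlib.Tactic.LinearCombination
import Mathlib.Algebra.Ring.GeomSum

/-!
# Symmetric functionals on a group algebra over the field with two elements

`A` is an abelian group of odd order with an action of a group `C` of odd order, `L` a linear map on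
`(ZMod 2)[A]` with `L a⁻¹ = L a`, with an invariant kernel, for which the invariant elements of the
algebra act as `0` or `1`.  Then `L` is constant on `A`.
-/

set_option autoImplicit false
set_option linter.style.haveILetI false

namespace CfsgLib.SECrit

open MonoidAlgebra

variable {A : Type*} [CommGroup A] [Finite A] {C : Type*} [Group C] [Finite C]
  {E : Type*} [AddCommGroup E] [Module (ZMod 2) E]

/-- The largest ideal in the kernel of `L`. -/
def pairingKer (L : MonoidAlgebra (ZMod 2) A →ₗ[ZMod 2] E) : Ideal (MonoidAlgebra (ZMod 2) A) where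
  carrier := {r | ∀ s, L (s * r) = 0}
  zero_mem' := fun s => by rw [mul_zero, map_zero]
  add_mem' := fun {a b} ha hb s => by rw [mul_add, map_add, ha, hb, add_zero]
  smul_mem' := fun c {x} hx s => by rw [smul_eq_mul, ← mul_assoc]; exact hx _

omit [Finite A] in
theorem mem_pairingKer {L : MonoidAlgebra (ZMod 2) A →ₗ[ZMod 2] E} {r : MonoidAlgebra (ZMod 2) A} :
    r ∈ pairingKer L ↔ ∀ s, L (s * r) = 0 := Iff.rfl

/-- Two homomorphisms into a domain agreeing on the invariants of a finite group `C` differ by an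
element of `C` on any finite family. -/
theorem exists_twist {R K : Type*} [CommRing R] [CommRing K] [IsDomain K] {C : Type*} [Group C] [Finite C]
    (σ : C → (R →+* R)) (hmul : ∀ d c r, σ (d * c) r = σ d (σ c r)) (hone : ∀ r, σ 1 r = r)
    (φ ψ : R →+* K) (hinv : ∀ u, (∀ c, σ c u = u) → φ u = ψ u) {ι : Type*} [Finite ι] (v : ι → R) :
    ∃ c : C, ∀ i, ψ (v i) = φ (σ c (v i)) := by
  classical
  letI := Fintype.ofFinite C
  letI := Fintype.ofFinite ι
  let e := Fintype.equivFin ι
  let r : Polynomial R := ∑ i : ι, Polynomial.C (v i) * Polynomial.X ^ (e i : ℕ)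
  have hr : ∀ i, r.coeff (e i : ℕ) = v i := by
    intro i
    rw [show r.coeff (e i : ℕ) =
        ∑ i' : ι, (Polynomial.C (v i') * Polynomial.X ^ (e i' : ℕ)).coeff (e i : ℕ)
      from Polynomial.finsetSum_coeff _ _ _, Finset.sum_eq_single i]
    · rw [Polynomial.coeff_C_mul, Polynomial.coeff_X_pow, if_pos rfl, mul_one]
    · intro i' _ hi'
      rw [Polynomial.coeff_C_mul, Polynomial.coeff_X_pow, if_neg, mul_zero]
      exact fun h => hi' (e.injective (Fin.ext h.symm))
    · exact fun h => absurd (Finset.mem_univ i) h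
  let F : C → Polynomial (Polynomial R) := fun c => Polynomial.X - Polynomial.C (r.map (σ c))
  have hPP : ∀ d, (∏ c, F c).map (Polynomial.mapRingHom (σ d)) = ∏ c, F c := by
    intro d
    rw [Polynomial.map_prod]
    refine Fintype.prod_equiv (Equiv.mulLeft d) _ _ fun c => ?_
    simp only [F, Polynomial.map_sub, Polynomial.map_X, Polynomial.map_C, Polynomial.coe_mapRingHom,
      Polynomial.map_map, Equiv.coe_mulLeft]
    rw [show (σ d).comp (σ c) = σ (d * c) from RingHom.ext fun x => (hmul d c x).symm]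
  have hmap : (∏ c, F c).map (Polynomial.mapRingHom φ) = (∏ c, F c).map (Polynomial.mapRingHom ψ) := by
    refine Polynomial.ext fun i => Polynomial.ext fun j => ?_
    simp only [Polynomial.coeff_map, Polynomial.coe_mapRingHom]
    refine hinv _ fun d => ?_
    conv_rhs => rw [← hPP d]
    simp only [Polynomial.coeff_map, Polynomial.coe_mapRingHom]
  have hfac : ∀ g : R →+* K, ((∏ c, F c).map (Polynomial.mapRingHom g)).eval (r.map ψ) =
      ∏ c, (r.map ψ - r.map (g.comp (σ c))) := by
    intro g
    rw [Polynomial.map_prod, Polynomial.eval_prod]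
    refine Finset.prod_congr rfl fun c _ => ?_
    simp only [F, Polynomial.map_sub, Polynomial.map_X, Polynomial.map_C, Polynomial.eval_sub,
      Polynomial.eval_X, Polynomial.eval_C, Polynomial.coe_mapRingHom, Polynomial.map_map]
  have heval : ∏ c, (r.map ψ - r.map (φ.comp (σ c))) = 0 := by
    rw [← hfac, hmap, hfac]
    refine Finset.prod_eq_zero (Finset.mem_univ (1 : C)) ?_
    rw [show σ 1 = RingHom.id R from RingHom.ext hone, RingHom.comp_id, sub_self]
  obtain ⟨c, -, hc⟩ := Finset.prod_eq_zero_iff.1 heval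
  refine ⟨c, fun i => ?_⟩
  have h := congrArg (fun p => Polynomial.coeff p (e i : ℕ)) (sub_eq_zero.1 hc)
  simpa [Polynomial.coeff_map, hr] using h

/-- The pairing lemma, for invariant elements acting symmetrically. -/
theorem pairing_const_of_flip (hA : Odd (Nat.card A)) (hC : Odd (Nat.card C)) (θ : C →* MulAut A)
    (L : MonoidAlgebra (ZMod 2) A →ₗ[ZMod 2] E)
    (hsymm : ∀ a : A, L (of (ZMod 2) A a⁻¹) = L (of (ZMod 2) A a))
    (hflip : ∀ u : MonoidAlgebra (ZMod 2) A, (∀ c : C, domCongr (ZMod 2) (ZMod 2) (θ c) u = u) →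
      ∀ b : A, L (of (ZMod 2) A b⁻¹ * u) = L (of (ZMod 2) A b * u))
    (a : A) : L (of (ZMod 2) A a) = L 1 := by
  classical
  letI := Fintype.ofFinite A
  letI := Fintype.ofFinite C
  set R := MonoidAlgebra (ZMod 2) A
  let σ : C → (R ≃ₐ[ZMod 2] R) := fun c => domCongr (ZMod 2) (ZMod 2) (θ c)
  let st : R ≃ₐ[ZMod 2] R := domCongr (ZMod 2) (ZMod 2) (MulEquiv.inv A)
  set J := pairingKer L
  have hσ : ∀ c b, σ c (of (ZMod 2) A b) = of (ZMod 2) A (θ c b) := fun c b =>
    domCongr_single (R := ZMod 2) (θ c) b 1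
  have hst : ∀ b, st (of (ZMod 2) A b) = of (ZMod 2) A b⁻¹ := fun b =>
    domCongr_single (R := ZMod 2) (MulEquiv.inv A) b 1
  have hstst : ∀ r, st (st r) = r := by
    intro r
    induction r using MonoidAlgebra.induction_on with
    | of b => rw [hst, hst, inv_inv]
    | add x y hx hy => rw [map_add, map_add, hx, hy]
    | smul k x hx => rw [map_smul, map_smul, hx]
  have hLst : ∀ r, L (st r) = L r := by
    intro r
    induction r using MonoidAlgebra.induction_on with
    | of b => rw [hst, hsymm]
    | add x y hx hy => rw [map_add, map_add, map_add, hx, hy]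
    | smul k x hx => rw [map_smul, map_smul, map_smul, hx]
  have hJst : ∀ r ∈ J, st r ∈ J := fun r hr s => by
    rw [← hLst, map_mul, hstst]
    exact hr _
  have hσmul : ∀ d c r, σ (d * c) r = σ d (σ c r) := by
    intro d c r
    induction r using MonoidAlgebra.induction_on with
    | of b => rw [hσ, hσ, hσ, map_mul, MulAut.mul_apply]
    | add x y hx hy => simp only [map_add, hx, hy]
    | smul k x hx => simp only [map_smul, hx]
  have hσone : ∀ r, σ 1 r = r := by
    intro r
    induction r using MonoidAlgebra.induction_on with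
    | of b => rw [hσ, map_one, MulAut.one_apply]
    | add x y hx hy => simp only [map_add, hx, hy]
    | smul k x hx => simp only [map_smul, hx]
  -- every prime over `J` contains `b - 1`
  have hprime : ∀ P : Ideal R, P.IsPrime → J ≤ P → ∀ b : A, of (ZMod 2) A b - 1 ∈ P := by
    intro P hP hJP
    haveI := hP
    set φ : R →+* R ⧸ P := Ideal.Quotient.mk P with hφ
    set ψ : R →+* R ⧸ P := φ.comp (st : R ≃ₐ[ZMod 2] R).toRingEquiv.toRingHom with hψ
    have hψa : ∀ r, ψ r = φ (st r) := fun r => rfl
    have hJ0 : ∀ r ∈ J, φ r = 0 ∧ ψ r = 0 := fun r hr =>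
      ⟨Ideal.Quotient.eq_zero_iff_mem.2 (hJP hr),
        (hψa r).trans (Ideal.Quotient.eq_zero_iff_mem.2 (hJP (hJst r hr)))⟩
    have hinv : ∀ u : R, (∀ c, σ c u = u) → φ u = ψ u := by
      intro u hu
      have h1 : u - st u ∈ J := fun s => by
        induction s using MonoidAlgebra.induction_on with
        | of b =>
          rw [mul_sub, map_sub, sub_eq_zero,
            show of (ZMod 2) A b * st u = st (of (ZMod 2) A b⁻¹ * u) by rw [map_mul, hst, inv_inv],
            hLst, hflip u hu b]
        | add s s' hs hs' => rw [add_mul, map_add, hs, hs', add_zero]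
        | smul k s hs => rw [smul_mul_assoc, map_smul, hs, smul_zero]
      rw [hψa]
      exact sub_eq_zero.1 ((map_sub φ u (st u)).symm.trans (hJ0 _ h1).1)
    obtain ⟨c, hc⟩ := exists_twist (fun c => (σ c).toRingEquiv.toRingHom) hσmul hσone φ ψ hinv
      (fun b : A => of (ZMod 2) A b)
    have hkey : ∀ b : A, φ (of (ZMod 2) A b⁻¹) = φ (of (ZMod 2) A (θ c b)) := by
      intro b
      rw [← hst, ← hσ]
      exact (hψa _).symm.trans (hc b)
    have h2 : ∀ (i : ℕ) (b : A), φ (of (ZMod 2) A (θ (c ^ (2 * i)) b)) = φ (of (ZMod 2) A b) := by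
      intro i
      induction i with
      | zero => intro b; rw [Nat.mul_zero, pow_zero, map_one, MulAut.one_apply]
      | succ i ih =>
        intro b
        rw [show 2 * (i + 1) = 2 * i + (1 + 1) by ring, pow_add, pow_add, pow_one, map_mul,
          MulAut.mul_apply, ih, map_mul, MulAut.mul_apply, ← hkey, ← map_inv, ← hkey, inv_inv]
    intro b
    have h3 : φ (of (ZMod 2) A (θ c b)) = φ (of (ZMod 2) A b) := by
      obtain ⟨i, hi⟩ : Odd (orderOf c) := hC.of_dvd_nat (orderOf_dvd_natCard c)
      rw [← h2 (i + 1) b]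
      have h := pow_orderOf_eq_one c
      rw [show 2 * (i + 1) = orderOf c + 1 by omega, pow_succ, h, one_mul]
    have h4 : φ (of (ZMod 2) A b) * φ (of (ZMod 2) A b) = 1 := by
      nth_rewrite 2 [← h3]
      rw [← hkey, ← map_mul, ← map_mul, mul_inv_cancel, map_one, map_one]
    have h5 : (2 : R) = 0 := by
      rw [← map_ofNat (algebraMap (ZMod 2) R) 2, show (OfNat.ofNat 2 : ZMod 2) = 0 from by decide, map_zero]
    have h6 : (2 : R ⧸ P) = 0 := by rw [← map_ofNat φ 2, h5, map_zero]
    have h7 : (φ (of (ZMod 2) A b) - 1) * (φ (of (ZMod 2) A b) - 1) = 0 := by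
      linear_combination h4 + (1 - φ (of (ZMod 2) A b)) * h6
    rw [← Ideal.Quotient.eq_zero_iff_mem, map_sub, map_one, ← hφ]
    exact mul_self_eq_zero.1 h7
  -- so `a - 1` is in `J`
  have hrad : of (ZMod 2) A a - 1 ∈ J.radical := by
    rw [Ideal.radical_eq_sInf, Ideal.mem_sInf]
    exact fun {P} hP => hprime P hP.2 hP.1 a
  obtain ⟨n, hn⟩ := hrad
  have h2R : (2 : R) = 0 := by
    rw [← map_ofNat (algebraMap (ZMod 2) R) 2, show (OfNat.ofNat 2 : ZMod 2) = 0 from by decide, map_zero]
  have hfrob : ∀ k : ℕ, (of (ZMod 2) A a - 1) ^ (2 ^ k) = of (ZMod 2) A (a ^ (2 ^ k)) - 1 := by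
    intro k
    induction k with
    | zero => rw [pow_zero, pow_one, pow_one]
    | succ k ih =>
      rw [pow_succ 2 k, pow_mul, ih, pow_mul, map_pow (of (ZMod 2) A) (a ^ (2 ^ k))]
      linear_combination (1 - of (ZMod 2) A (a ^ (2 ^ k))) * h2R
  have hJn : of (ZMod 2) A (a ^ (2 ^ n)) - 1 ∈ J := by
    rw [← hfrob]
    exact Ideal.pow_mem_of_pow_mem J hn Nat.lt_two_pow_self.le
  obtain ⟨j, hj⟩ := exists_pow_eq_self_of_coprime (x := a) (n := 2 ^ n)
    (Nat.Coprime.pow_left _ (Nat.coprime_two_left.2 (hA.of_dvd_nat (orderOf_dvd_natCard a))))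
  have hmem : of (ZMod 2) A a - 1 ∈ J := by
    nth_rewrite 1 [← hj]
    rw [map_pow]
    exact Ideal.mem_of_dvd _ (sub_one_dvd_pow_sub_one _ j) hJn
  have h := hmem 1
  rwa [one_mul, map_sub, sub_eq_zero] at h

/-- **Pairing lemma.** -/
theorem pairing_const (hA : Odd (Nat.card A)) (hC : Odd (Nat.card C)) (θ : C →* MulAut A)
    (L : MonoidAlgebra (ZMod 2) A →ₗ[ZMod 2] E)
    (hsymm : ∀ a : A, L (of (ZMod 2) A a⁻¹) = L (of (ZMod 2) A a))
    (hfix : ∀ u : MonoidAlgebra (ZMod 2) A,
      (∀ c : C, domCongr (ZMod 2) (ZMod 2) (θ c) u = u) → (∀ s, L (s * u) = 0) ∨ ∀ s, L (s * u) = L s)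
    (a : A) : L (of (ZMod 2) A a) = L 1 :=
  pairing_const_of_flip hA hC θ L hsymm (fun u hu b => by
    rcases hfix u hu with h | h
    · rw [h, h]
    · rw [h, h, hsymm]) a

end CfsgLib.SECrit

namespace CfsgLib.SECrit

open MonoidAlgebra

/-- The pairing lemma for a map `vx` of `A` into a module. -/
theorem pairing_const_module {A : Type*} [CommGroup A] [Finite A] {C : Type*} [Group C] [Finite C]
    {V E : Type*} [AddCommGroup V] [Module (ZMod 2) V] [AddCommGroup E] [Module (ZMod 2) E]
    (hA : Odd (Nat.card A)) (hC : Odd (Nat.card C)) (θ : C →* MulAut A) (vx : A → V)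
    (Ra : A → (V →ₗ[ZMod 2] V)) (hRa : ∀ a b, Ra a (vx b) = vx (a * b))
    (Rc : C → (V →ₗ[ZMod 2] V)) (hRc : ∀ c b, Rc c (vx b) = vx (θ c b))
    (β : V →ₗ[ZMod 2] E) (hsymm : ∀ a, β (vx a⁻¹) = β (vx a))
    (hfix : ∀ v ∈ Submodule.span (ZMod 2) (Set.range vx), (∀ c, Rc c v = v) → v = 0 ∨ v = vx 1)
    (a : A) : β (vx a) = β (vx 1) := by
  let Mv : MonoidAlgebra (ZMod 2) A →ₗ[ZMod 2] V :=
    Finsupp.linearCombination (ZMod 2) vx ∘ₗ (coeffLinearEquiv (ZMod 2)).toLinearMap
  have hMof : ∀ b, Mv (of (ZMod 2) A b) = vx b := fun b => by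
    simp [Mv, coeffLinearEquiv, Finsupp.linearCombination_single]
  have hmul : ∀ b r, Mv (of (ZMod 2) A b * r) = Ra b (Mv r) := by
    intro b r
    induction r using MonoidAlgebra.induction_on with
    | of c => rw [← map_mul, hMof, hMof, hRa]
    | add u v hu hv => rw [mul_add, map_add, map_add, map_add, hu, hv]
    | smul k u hu => rw [mul_smul_comm, map_smul, map_smul, map_smul, hu]
  have hMθ : ∀ c r, Mv (domCongr (ZMod 2) (ZMod 2) (θ c) r) = Rc c (Mv r) := by
    intro c r
    induction r using MonoidAlgebra.induction_on with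
    | of b =>
      rw [show domCongr (ZMod 2) (ZMod 2) (θ c) (of (ZMod 2) A b) = of (ZMod 2) A (θ c b) from
        domCongr_single (R := ZMod 2) (θ c) b 1, hMof, hMof, hRc]
    | add u v hu hv => simp only [map_add, hu, hv]
    | smul k u hu => simp only [map_smul, hu]
  have hspan : ∀ r, Mv r ∈ Submodule.span (ZMod 2) (Set.range vx) := by
    intro r
    induction r using MonoidAlgebra.induction_on with
    | of b => rw [hMof]; exact Submodule.subset_span ⟨b, rfl⟩
    | add u v hu hv => rw [map_add]; exact add_mem hu hv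
    | smul k u hu => rw [map_smul]; exact Submodule.smul_mem _ k hu
  have h := pairing_const hA hC θ (β ∘ₗ Mv) (fun b => by
    simp only [LinearMap.comp_apply, hMof]; exact hsymm b) (fun u hu => ?_) a
  · simpa only [LinearMap.comp_apply, hMof, ← map_one (of (ZMod 2) A)] using h
  · rcases hfix _ (hspan u) (fun c => by rw [← hMθ, hu]) with h | h
    · refine Or.inl fun s => ?_
      induction s using MonoidAlgebra.induction_on with
      | of b => rw [LinearMap.comp_apply, hmul, h, map_zero, map_zero]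
      | add s t hs ht => rw [add_mul, map_add, hs, ht, add_zero]
      | smul k s hs => rw [smul_mul_assoc, map_smul, hs, smul_zero]
    · refine Or.inr fun s => ?_
      induction s using MonoidAlgebra.induction_on with
      | of b => rw [LinearMap.comp_apply, hmul, h, hRa, mul_one, LinearMap.comp_apply, hMof]
      | add s t hs ht => rw [add_mul, map_add, hs, ht, map_add]
      | smul k s hs => rw [smul_mul_assoc, map_smul, hs, map_smul]

end CfsgLib.SECrit
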