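import Cfsg.Agent.Lib.Invol.SECriterion.Shape.Local
import Cfsg.Agent.S1131

/-!
# The strong embedding criterion: the torus of a bad involution

In the centralizer of a bad involution modulo its kernel, the products of two swaps of two fixed points are
inverted by one swap, so by S1131 they lie in a cyclic group: their commutators centralize the members there.
-/

set_option autoImplicit false
set_option linter.style.haveILetI false

namespace CfsgLib.SECrit

open CfsgLib.Invol Subgroup MulAction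

universe u

variable {G : Type u} [Group G] [Finite G]

namespace Shape.Data

variable {H Q : Subgroup G} (h : Shape.Data H Q)
include h

/-- The set-up at a given involution outside `H`. -/
theorem setup_at {t : G} (hto : orderOf t = 2) (htH : t ∉ H) :
    Cfsg.IsRankOneSetup G (G ⧸ H) ((1 : G) : G ⧸ H) t Q := by
  set a : G ⧸ H := ((1 : G) : G ⧸ H) with ha
  have hstab : ∀ g : G, g • a = a ↔ g ∈ H := fun g => by
    rw [ha, MulAction.Quotient.smul_coe, smul_eq_mul, mul_one, QuotientGroup.eq, mul_one, inv_mem_iff]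
  have hta : ∀ g : G, g • (t • a) = t • a ↔ t⁻¹ * g * t ∈ H := fun g => by
    rw [← hstab, mul_smul (t⁻¹ * g) t, mul_smul t⁻¹ g, inv_smul_eq_iff]
  have htr : ∀ b c : G ⧸ H, b ≠ a → c ≠ a → ∃ y ∈ Q, y • b = c := by
    intro b c hb hc
    obtain ⟨g, rfl⟩ := QuotientGroup.mk_surjective b
    obtain ⟨k, rfl⟩ := QuotientGroup.mk_surjective c
    have hg : g ∉ H := fun e => hb (QuotientGroup.eq.2 (by simpa using inv_mem e))
    have hk : k ∉ H := fun e => hc (QuotientGroup.eq.2 (by simpa using inv_mem e))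
    obtain ⟨y, ⟨hy, hyk⟩, -⟩ := h.reg g k hg hk
    exact ⟨y, hy, by rw [MulAction.Quotient.smul_coe, smul_eq_mul]; exact (QuotientGroup.eq.2 hyk).symm⟩
  refine ⟨?_, invol_mul_self hto, invol_ne_one hto, ?_, ?_, ?_, ?_, ?_, h.even_card, ?_⟩
  · refine MulAction.is_two_pretransitive_iff.2 fun {p q r s} hpq hrs => ?_
    obtain ⟨g, rfl⟩ := MulAction.exists_smul_eq G a p
    obtain ⟨k, rfl⟩ := MulAction.exists_smul_eq G a r
    obtain ⟨y, hy, hyq⟩ := htr (g⁻¹ • q) (k⁻¹ • s)
      (fun e => hpq (by rw [← e, smul_inv_smul])) (fun e => hrs (by rw [← e, smul_inv_smul]))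
    refine ⟨k * y * g⁻¹, ?_, ?_⟩
    · rw [mul_smul, mul_smul, inv_smul_smul, (hstab y).2 (h.le hy)]
    · rw [mul_smul, mul_smul, hyq, smul_inv_smul]
  · rw [MulAction.mem_stabilizer_iff, hstab]; exact htH
  · intro y hy
    rw [MulAction.mem_stabilizer_iff, hstab]
    exact h.le hy
  · intro g hg y hy
    rw [MulAction.mem_stabilizer_iff, hstab] at hg
    exact (mem_normalizer_iff.1 (h.norm hg) y).1 hy
  · rw [eq_bot_iff]
    rintro y ⟨hy, hyt⟩
    obtain ⟨w, -, huniq⟩ := h.reg t t htH htH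
    refine mem_bot.2 ((huniq y ⟨hy, ?_⟩).trans (huniq 1 ⟨one_mem _, ?_⟩).symm)
    · rw [← mul_assoc]; exact (hta y).1 hyt
    · rw [one_mul, inv_mul_cancel]; exact one_mem _
  · refine le_antisymm (sup_le ?_ inf_le_left) fun g hg => ?_
    · intro y hy
      rw [MulAction.mem_stabilizer_iff, hstab]
      exact h.le hy
    · rw [MulAction.mem_stabilizer_iff, hstab] at hg
      obtain ⟨y, hy, d, ⟨hd, ⟨d', hd', hdd⟩⟩, rfl⟩ := CfsgLib.Bender.Full.exists_mul h.le h.reg htH hg
      refine mul_mem (mem_sup_left hy) (mem_sup_right ⟨(hstab d).2 hd, (hta d).2 ?_⟩)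
      rw [← show t * d' * t⁻¹ = d from hdd]
      simpa [mul_assoc] using hd'
  · refine (h.se.2.2 t htH).of_dvd_nat (card_dvd_of_le ?_)
    rintro g ⟨hg1, hg2⟩
    exact ⟨(hstab g).1 hg1, t⁻¹ * g * t, (hta g).1 hg2, by simp [mul_assoc]⟩

/-- Two-point elements inverted by the involution commute. -/
theorem commute_inverted {t c d : G} (hto : orderOf t = 2) (htH : t ∉ H) (hc : c ∈ H) (hc' : t⁻¹ * c * t ∈ H)
    (hci : t * c * t⁻¹ = c⁻¹) (hd : d ∈ H) (hd' : t⁻¹ * d * t ∈ H) (hdi : t * d * t⁻¹ = d⁻¹) :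
    Commute c d := by
  haveI : FaithfulSMul G (G ⧸ H) := ⟨fun {g₁ g₂} hg => by
    refine inv_mul_eq_one.1 (h.faithful fun b => ?_)
    rw [mul_smul, ← hg, inv_smul_smul]⟩
  obtain ⟨C, hC, hcyc, -⟩ := Cfsg.Agent.S1131.result (h.setup_at hto htH) h.pair_mul
  have hmem : ∀ g : G, g ∈ H → t⁻¹ * g * t ∈ H → t * g * t⁻¹ = g⁻¹ → g ∈ C := by
    intro g hg hg' hgi
    have hstab : ∀ k : G, k • ((1 : G) : G ⧸ H) = ((1 : G) : G ⧸ H) ↔ k ∈ H := fun k => by
      rw [MulAction.Quotient.smul_coe, smul_eq_mul, mul_one, QuotientGroup.eq, mul_one, inv_mem_iff]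
    refine (Set.ext_iff.1 hC g).2 ⟨⟨(hstab g).2 hg, ?_⟩, hgi⟩
    show g • t • ((1 : G) : G ⧸ H) = t • ((1 : G) : G ⧸ H)
    calc g • t • ((1 : G) : G ⧸ H) = t • (t⁻¹ * g * t) • ((1 : G) : G ⧸ H) := by
          rw [smul_smul, smul_smul]; group
      _ = _ := by rw [(hstab (t⁻¹ * g * t)).2 hg']
  haveI : IsMulCommutative C := inferInstance
  exact congrArg Subtype.val
    (mul_comm' (⟨c, hmem c hc hc' hci⟩ : C) ⟨d, hmem d hd hd' hdi⟩)

end Shape.Data

variable {M : Subgroup G} {z : G}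

/-- **The products of two swaps commute on the members.** -/
theorem Setup.swap_comm (h : Setup M z) {x : G} (hl : Local M z x) (hxo : orderOf x = 2) {p q : G ⧸ M}
    (hqp : q ≠ p) (hxp : x • p = p) (hxq : x • q = q) {d e : G} (hd : IsConj z d) (he : IsConj z e)
    (hxd : Commute x d) (hxe : Commute x e) (hdp : d • p = p) (hep : e • p = p) (hne : d ≠ e)
    {t k k' : G} (ht : IsConj z t) (hxt : Commute x t) (htp : t • p = q) (hk : IsConj z k) (hxk : Commute x k)
    (hkp : k • p = q) (hk' : IsConj z k') (hxk' : Commute x k') (hkp' : k' • p = q) {m : G} (hm : IsConj z m)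
    (hxm : Commute x m) : Commute ((k * t) * (k' * t) * (k * t)⁻¹ * (k' * t)⁻¹) m := by
  classical
  haveI : Fact (Nat.Prime 2) := ⟨Nat.prime_two⟩
  have hde : Commute d e := hl.comm_at d e p hd he hxd hxe hdp hep
  set L := locGroup z x with hL
  set H := (MulAction.stabilizer G p).subgroupOf L with hH
  have hmem : ∀ g : L, g ∈ H ↔ (g : G) • p = p := fun g => Iff.rfl
  have hcore : ∀ c : L, c ∈ H.normalCore ↔ (c : G) ∈ locKer M z x := by
    refine fun c => ⟨fun hcc => mem_locKer.2 ⟨c.2, fun b hb => ?_⟩, fun hcc g => ?_⟩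
    · obtain ⟨g, hg, rfl⟩ := h.exists_loc_smul hxo hxp hb
      have h1 : ((⟨g, hg⟩ : L)⁻¹ * c * ((⟨g, hg⟩ : L)⁻¹)⁻¹) ∈ H := hcc _
      have h2 : (g⁻¹ * (c : G) * g) • p = p := by simpa [H, mem_subgroupOf, mul_assoc] using h1
      rwa [mul_smul, mul_smul, inv_smul_eq_iff] at h2
    · rw [hmem]
      show ((g : G) * (c : G) * (g : G)⁻¹) • p = p
      have hg : Commute x (g : G)⁻¹ := (commute_of_mem_locGroup g.2).inv_right
      rw [mul_smul, mul_smul, (mem_locKer.1 hcc).2 _ (smul_mem_fix hg hxp), smul_inv_smul]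
  set π := QuotientGroup.mk' H.normalCore with hπ
  have hsurj : Function.Surjective π := QuotientGroup.mk'_surjective _
  have hone : ∀ c : L, π c = 1 ↔ (c : G) ∈ locKer M z x := fun c => by
    rw [hπ, QuotientGroup.mk'_apply, QuotientGroup.eq_one_iff, hcore]
  have hker : π.ker ≤ H := by rw [hπ, QuotientGroup.ker_mk']; exact H.normalCore_le
  have hmem' : ∀ g : L, π g ∈ H.map π ↔ (g : G) • p = p := fun g => by
    rw [← mem_comap, comap_map_eq_self hker, hmem]
  have himg : ∀ c : L, IsConj z (c : G) → orderOf (π c) = 2 := fun c hc =>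
    orderOf_eq_prime (by
      rw [← map_pow, pow_two, show c * c = 1 from Subtype.ext (invol_mul_self (h.crit.orderOf_conj hc)),
        map_one])
      (fun e1 => h.not_mem_locKer_of_isConj hxo hqp.symm hxp hxq hc ((hone c).1 e1))
  have hproper : H.map π ≠ ⊤ := fun e1 => by
    obtain ⟨g, hg, hgb⟩ := h.exists_loc_smul hxo hxp hxq
    exact hqp (hgb.symm.trans ((hmem' ⟨g, hg⟩).1 (e1 ▸ mem_top _)))
  have hse : Cfsg.IsStronglyEmbedded (H.map π) := by
    refine (stronglyEmbedded_iff hproper ?_).2 ?_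
    · refine even_iff_two_dvd.2 ?_
      rw [← himg ⟨d, mem_locGroup hd hxd⟩ hd, ← orderOf_mk (π _) ((hmem' ⟨d, mem_locGroup hd hxd⟩).2 hdp)]
      exact orderOf_dvd_natCard _
    · rintro tb htb hto gb hg
      obtain ⟨u, rfl⟩ := hsurj tb
      obtain ⟨g, rfl⟩ := hsurj gb
      rw [← map_inv, ← map_mul, ← map_mul, hmem'] at hg
      rw [hmem'] at htb ⊢
      have hu2 : ((u : G) * u) ∈ locKer M z x := (hone (u * u)).1 (by
        rw [map_mul, ← pow_two, ← hto, pow_orderOf_eq_one])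
      have hu1 : (u : G) ∉ locKer M z x := fun e1 => by
        rw [(hone u).2 e1, orderOf_one] at hto; omega
      have hgc : Commute x (g : G)⁻¹ := (commute_of_mem_locGroup g.2).inv_right
      have h2 : (u : G) • ((g : G)⁻¹ • p) = (g : G)⁻¹ • p := by
        have : ((g : G) * u * (g : G)⁻¹) • p = p := hg
        rw [mul_smul, mul_smul] at this
        exact eq_inv_smul_iff.2 this
      exact (inv_smul_eq_iff.1 (h.eq_of_loc_invol hxo hqp.symm hxp hxq u.2 hu2 hu1
        (smul_mem_fix hgc hxp) hxp h2 htb)).symm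
  have hcore' : (H.map π).normalCore = ⊥ := by
    rw [eq_bot_iff]
    intro cb hc
    obtain ⟨c, rfl⟩ := hsurj cb
    refine mem_bot.2 ((QuotientGroup.eq_one_iff c).2 fun g => ?_)
    have := (normalCore_normal _).conj_mem _ hc (π g)
    rw [← map_inv, ← map_mul, ← map_mul] at this
    exact (hmem' _).1 (normalCore_le _ this)
  have hpair : CfsgLib.Bender.HasPair (L ⧸ H.normalCore) := by
    refine ⟨π ⟨d, mem_locGroup hd hxd⟩, π ⟨e, mem_locGroup he hxe⟩, himg _ hd, himg _ he, fun e1 => ?_,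
      (show Commute (⟨d, mem_locGroup hd hxd⟩ : L) ⟨e, mem_locGroup he hxe⟩ from Subtype.ext hde.eq).map π⟩
    refine h.mul_not_mem_locKer hxo hqp.symm hxp hxq hd he hde hne ?_
    have h1 := (hcore _).1 ((QuotientGroup.eq).1 e1)
    simpa [invol_inv (h.crit.orderOf_conj hd)] using h1
  obtain ⟨Q, hQH, hnorm, hQ2, hreg⟩ := CfsgLib.Bender.Full.fullStatement _ _ hse hcore' hpair
  have hD : Shape.Data (H.map π) Q := ⟨hse, hcore', hpair, hQH, hnorm, hQ2, hreg⟩
  -- the two products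
  set T : L := ⟨t, mem_locGroup ht hxt⟩ with hT
  set K : L := ⟨k, mem_locGroup hk hxk⟩ with hK
  set K' : L := ⟨k', mem_locGroup hk' hxk'⟩ with hK'
  have hsw : ∀ v : G, IsConj z v → v • p = q → v • q = p := fun v hv hvp => by
    rw [← hvp, smul_smul, invol_mul_self (h.crit.orderOf_conj hv), one_smul]
  have hTo : T * T = 1 := Subtype.ext (invol_mul_self (h.crit.orderOf_conj ht))
  have hTi : T⁻¹ = T := inv_eq_of_mul_eq_one_left hTo
  have hinv : ∀ V : L, V * V = 1 → (V : G) • p = q → (V : G) • q = p →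
      π (V * T) ∈ H.map π ∧ (π T)⁻¹ * π (V * T) * π T ∈ H.map π ∧
        π T * π (V * T) * (π T)⁻¹ = (π (V * T))⁻¹ := by
    intro V hV hVp hVq
    refine ⟨?_, ?_, ?_⟩
    · rw [hmem']
      show ((V : G) * t) • p = p
      rw [mul_smul, htp, hVq]
    · rw [← map_inv, ← map_mul, ← map_mul, hTi, hmem', mul_assoc, mul_assoc, hTo, mul_one]
      show (t * (V : G)) • p = p
      rw [mul_smul, hVp, hsw t ht htp]
    · rw [← map_inv, ← map_inv, ← map_mul, ← map_mul, mul_inv_rev, hTi, inv_eq_of_mul_eq_one_left hV,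
        mul_assoc, mul_assoc, hTo, mul_one]
  obtain ⟨a1, a2, a3⟩ := hinv K (Subtype.ext (invol_mul_self (h.crit.orderOf_conj hk))) hkp (hsw k hk hkp)
  obtain ⟨b1, b2, b3⟩ := hinv K' (Subtype.ext (invol_mul_self (h.crit.orderOf_conj hk'))) hkp' (hsw k' hk' hkp')
  have htH : π T ∉ H.map π := fun e1 => hqp (htp.symm.trans ((hmem' T).1 e1))
  have hcomm := hD.commute_inverted (himg T ht) htH a1 a2 a3 b1 b2 b3
  have h1 : π ((K * T) * (K' * T) * (K * T)⁻¹ * (K' * T)⁻¹) = 1 := by
    rw [map_mul, map_mul, map_inv, map_inv, map_mul π (K * T), hcomm.eq, mul_inv_cancel_right, mul_inv_cancel]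
  exact hl.ker_comm _ ((hone _).1 h1) m (mem_locGroup hm hxm)

end CfsgLib.SECrit
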