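import Cfsg.Agent.Lib.Invol.SECriterion.EqType.SEq.Count
import Cfsg.Agent.Lib.Invol.SECriterion.EqType.Torus

/-!
# The strong embedding criterion, equal type with `s = q`: no Klein pair

Let `W` be the elements fixing two points of a bad involution `x`, centralizing it and the group `E` at one
of the points, and `A = E W`.  The orbit count of `H = {g ∈ C(E) ∩ M | g x g⁻¹ ∈ E x}`, of order `q² |W|`,
on the other `q³` points gives `q + |W| - 1 + B ≡ 0` modulo `|W|`, with `B` one of `0`, `q - 1`: so `|W| ≤ 2`.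
The block moves `x`: the torus of a second line moves `x`, and by S1131 its action on `E` commutes with a torus
of the line of `x`, whose commutator with it centralizes `E`.
-/

set_option autoImplicit false
set_option linter.style.haveILetI false

namespace CfsgLib.SECrit.Eq

open CfsgLib.Invol Small

universe u

variable {G : Type u} [Group G] [Finite G] {M : Subgroup G} {z : G}

namespace EqRes

variable (h : EqRes M z)
include h

/-- The centralizer of `x` and the group at the base point, in `M`. -/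
def centA (x : G) : Subgroup G where
  carrier := {g | g • base M = base M ∧ Commute g x ∧ ∀ e ∈ h.res.grp (base M), Commute g e}
  one_mem' := ⟨one_smul _ _, Commute.one_left x, fun e _ => Commute.one_left e⟩
  mul_mem' := fun {a b} ha hb => ⟨by rw [mul_smul, hb.1, ha.1], ha.2.1.mul_left hb.2.1,
    fun e he => (ha.2.2 e he).mul_left (hb.2.2 e he)⟩
  inv_mem' := fun {a} ha => ⟨inv_smul_eq_iff.2 ha.1.symm, ha.2.1.inv_left, fun e he => (ha.2.2 e he).inv_left⟩

theorem bad_translate' {y : G} (hy : Bad z y) (hyp : y • base M = base M) {e : G}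
    (he : e ∈ h.res.grp (base M)) : Bad z (e * y) := by
  rcases (show e = 1 ∨ _ from he) with rfl | ⟨hez, -⟩
  · rwa [one_mul]
  · rw [← (h.commute_grp hy hyp he).eq]
    exact h.res.bad_mul hy hez (h.commute_grp hy hyp he)

theorem grp_le_centA {x : G} (hx : Bad z x) (hxp : x • base M = base M) :
    h.res.grp (base M) ≤ h.centA x := fun _ he =>
  ⟨h.res.grp_smul he, (h.commute_grp hx hxp he).symm, fun _ hd => h.res.grp_commute he hd⟩

theorem self_mem_centA {x : G} (hx : Bad z x) (hxp : x • base M = base M) : x ∈ h.centA x :=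
  ⟨hxp, Commute.refl x, fun _ hd => h.commute_grp hx hxp hd⟩

theorem not_mem_grp_of_bad {y : G} (hy : Bad z y) {p : G ⧸ M} : y ∉ h.res.grp p := fun hh =>
  hh.elim (invol_ne_one hy.invol) fun h1 => hy.not_conj h1.1

section Regular

variable (hfix : ∀ x : G, Bad z x → fix M x = deg M z + 2)
include hfix

/-- An element centralizing `x` and the group at one of two fixed points of `x`, fixing both, is an involution. -/
theorem sq_eq_one {x g : G} (hx : Bad z x) {p a : G ⧸ M} (hp : x • p = p) (ha : x • a = a) (hap : a ≠ p)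
    (hgp : g • p = p) (hga : g • a = a) (hgx : Commute g x) (hgE : ∀ e ∈ h.res.grp p, Commute g e) :
    g * g = 1 := by
  have hgF : ∀ b : G ⧸ M, x • b = b → g • b = b := by
    intro b hb
    by_cases hbp : b = p
    · rw [hbp, hgp]
    obtain ⟨e, he, rfl⟩ := h.exists_grp_smul hfix hx hp ha hap hb hbp
    rw [smul_smul, (hgE e he).eq, mul_smul, hga]
  have hgD : ∀ b : G ⧸ M, x • b = b → ∀ d ∈ h.res.grp b, Commute g d := by
    intro b hb d hd
    obtain ⟨c, hcb, hc⟩ : ∃ c : G ⧸ M, c ≠ b ∧ x • c = c := by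
      by_cases hbp : b = p
      · exact ⟨a, fun hh => hap (hh.trans hbp), ha⟩
      · exact ⟨p, fun hh => hbp hh.symm, hp⟩
    have hdb : g * d * g⁻¹ ∈ h.res.grp b := h.res.grp_conj (hgF b hb) hd
    have h1 : (d⁻¹ * (g * d * g⁻¹)) • c = c := by
      rw [mul_smul, mul_smul, mul_smul, inv_smul_eq_iff.2 (hgF c hc).symm,
        hgF _ (h.fix_mul_mem hx hb hd hc), inv_smul_smul]
    exact mul_inv_eq_iff_eq_mul.1
      (inv_mul_eq_one.1 (h.eq_one_of_grp_fix (mul_mem (inv_mem hd) hdb) hcb h1)).symm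
  refine h.faith _ fun c => ?_
  by_cases hc : x • c = c
  · rw [mul_smul, hgF c hc, hgF c hc]
  obtain ⟨d, hd, hdc, hxd⟩ := h.res.crit.exists_commuting_swap_of_moved hx.invol hc
  obtain ⟨b, hb⟩ := h.res.crit.fix_exists hd
  have hxb : x • b = b := h.res.crit.smul_of_commute hd hxd hb
  have hyc : (x * d) • c = c := by rw [mul_smul, hdc, smul_smul, invol_mul_self hx.invol, one_smul]
  have hy := h.res.bad_mul hx hd hxd
  have hyb : (x * d) • b = b := by rw [mul_smul, hb, hxb]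
  have hcb : c ≠ b := fun hh => hc (hh ▸ hxb)
  have hgy : Commute g (x * d) := hgx.mul_right (hgD b hxb d (Or.inr ⟨hd, hb⟩))
  obtain ⟨e, he, hec⟩ := h.exists_grp_smul hfix hy hyb hyc hcb (b := g • c)
    (by rw [smul_smul, ← hgy.eq, mul_smul, hyc])
    (fun hh => hcb (smul_left_cancel g (hh.trans (hgF b hxb).symm)))
  rw [mul_smul, ← hec, smul_smul, (hgD b hxb e he).eq, mul_smul, ← hec, smul_smul, h.res.grp_sq he, one_smul]

/-- `A = E W`. -/
theorem exists_decomp {x g : G} (hx : Bad z x) (hxp : x • base M = base M) {a : G ⧸ M} (ha : x • a = a)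
    (hap : a ≠ base M) (hg : g ∈ h.centA x) :
    ∃ e ∈ h.res.grp (base M), ∃ w ∈ h.centA x, w • a = a ∧ g = e * w := by
  obtain ⟨e, he, hea⟩ := h.exists_grp_smul hfix hx hxp ha hap (b := g • a)
    (by rw [smul_smul, ← hg.2.1.eq, mul_smul, ha])
    (fun hh => hap (smul_left_cancel g (hh.trans hg.1.symm)))
  exact ⟨e, he, e⁻¹ * g, mul_mem (inv_mem (h.grp_le_centA hx hxp he)) hg,
    by rw [mul_smul, ← hea, inv_smul_smul], (mul_inv_cancel_left e g).symm⟩

theorem centA_sq {x g : G} (hx : Bad z x) (hxp : x • base M = base M) (hg : g ∈ h.centA x) : g * g = 1 := by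
  obtain ⟨a, hap, ha⟩ := h.res.bad_two_fix hx hxp
  obtain ⟨e, he, w, hw, hwa, rfl⟩ := h.exists_decomp hfix hx hxp ha hap hg
  rw [(hw.2.2 e he).mul_mul_mul_comm, h.res.grp_sq he, one_mul,
    h.sq_eq_one hfix hx hxp ha hap hw.1 hwa hw.2.1 hw.2.2]

theorem centA_comm {x g g' : G} (hx : Bad z x) (hxp : x • base M = base M) (hg : g ∈ h.centA x)
    (hg' : g' ∈ h.centA x) : Commute g g' := by
  have h1 := h.centA_sq hfix hx hxp (mul_mem hg hg')
  calc g * g' = (g * g')⁻¹ := (inv_eq_of_mul_eq_one_left h1).symm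
    _ = g'⁻¹ * g⁻¹ := mul_inv_rev _ _
    _ = g' * g := by
      rw [inv_eq_of_mul_eq_one_left (h.centA_sq hfix hx hxp hg), inv_eq_of_mul_eq_one_left (h.centA_sq hfix hx hxp hg')]

/-- Every bad involution of `A` has the same `A`. -/
theorem centA_eq {x u : G} (hx : Bad z x) (hxp : x • base M = base M) (hu : Bad z u) (huA : u ∈ h.centA x) :
    h.centA u = h.centA x := by
  refine le_antisymm (fun g hg => ⟨hg.1, ?_, hg.2.2⟩) fun g hg => ⟨hg.1, h.centA_comm hfix hx hxp hg huA, hg.2.2⟩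
  exact h.centA_comm hfix hu huA.1 hg ⟨hxp, huA.2.1.symm, fun _ he => h.commute_grp hx hxp he⟩

/-- An element of `A` outside `E` is bad. -/
theorem bad_of_centA {x g : G} (hx : Bad z x) (hxp : x • base M = base M) (hg : g ∈ h.centA x)
    (hgE : g ∉ h.res.grp (base M)) : Bad z g := by
  obtain ⟨a, hap, ha⟩ := h.res.bad_two_fix hx hxp
  obtain ⟨e, he, w, hw, hwa, rfl⟩ := h.exists_decomp hfix hx hxp ha hap hg
  have hw1 : w ≠ 1 := fun hh => hgE (by rw [hh, mul_one]; exact he)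
  have hwb : Bad z w := ⟨invol_iff.2 ⟨h.centA_sq hfix hx hxp hw, hw1⟩,
    fun hh => hap (h.res.crit.fix_unique hh hwa hw.1)⟩
  exact h.bad_translate' hwb hw.1 he

/-- A torus at the base point and `a`: it centralizes every bad involution fixing both. -/
theorem exists_torus' {x : G} (hx : Bad z x) (hxp : x • base M = base M) {a : G ⧸ M} (ha : x • a = a)
    (hap : a ≠ base M) {e e' : G} (he : e ∈ h.res.grp (base M)) (he1 : e ≠ 1)
    (he' : e' ∈ h.res.grp (base M)) (he1' : e' ≠ 1) :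
    ∃ c : G, c • base M = base M ∧ c * e * c⁻¹ = e' ∧
      ∀ u : G, Bad z u → u • base M = base M → u • a = a → Commute c u := by
  obtain ⟨f, hf, hfa, -⟩ := h.res.crit.exists_commuting_invol hx.invol ha
  obtain ⟨hez, hep⟩ := he.resolve_left he1
  obtain ⟨hez', hep'⟩ := he'.resolve_left he1'
  obtain ⟨g, hg, hgf⟩ := h.res.crit.exists_midpoint hez hf hep hfa hap.symm
  obtain ⟨k, hk, hkf⟩ := h.res.crit.exists_midpoint hez' hf hep' hfa hap.symm
  have hgp := h.res.crit.smul_eq_of_conj hf hgf hep hfa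
  have hkp := h.res.crit.smul_eq_of_conj hf hkf hep' hfa
  have hko := h.res.crit.orderOf_conj hk
  refine ⟨k * g, ?_, ?_, fun u hu hup hua => ?_⟩
  · rw [mul_smul, hgp, ← hkp, smul_smul, invol_mul_self hko, one_smul]
  · rw [show k * g * e * (k * g)⁻¹ = k * (g * e * g⁻¹) * k⁻¹ by group, hgf, ← hkf]
    calc k * (k * e' * k⁻¹) * k⁻¹ = (k * k) * e' * (k * k)⁻¹ := by group
      _ = e' := by rw [invol_mul_self hko, inv_one, one_mul, mul_one]
  · have huf := h.commute_grp hu hua (p := a) (d := f) (Or.inr ⟨hf, hfa⟩)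
    exact ((h.res.crit.commute_midpoint hez' hf hk hep' hfa hap.symm hkf (h.commute_grp hu hup he') huf).mul_right
      (h.res.crit.commute_midpoint hez hf hg hep hfa hap.symm hgf (h.commute_grp hu hup he) huf)).symm

variable (hS : Setup M z) (hloc : ∀ x : G, IsBad M x → Local M z x)
include hS hloc

omit hS hloc in
/-- A fixed point of `x` is fixed by every bad involution of `A` fixing `a`. -/
theorem fix_line {x u : G} (hx : Bad z x) (hxp : x • base M = base M) {a : G ⧸ M} (ha : x • a = a)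
    (hap : a ≠ base M) (huA : u ∈ h.centA x) (hua : u • a = a) {b : G ⧸ M} (hb : x • b = b) : u • b = b := by
  by_cases hbp : b = base M
  · rw [hbp, huA.1]
  obtain ⟨e, he, rfl⟩ := h.exists_grp_smul hfix hx hxp ha hap hb hbp
  rw [smul_smul, (huA.2.2 e he).eq, mul_smul, hua]

omit hS hloc in
/-- An element fixing a bad involution of the line of `x` fixes the line. -/
theorem eq_one_of_fixes {x u n : G} (hx : Bad z x) (hu : Bad z u) (hxp : x • base M = base M) {a : G ⧸ M}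
    (ha : x • a = a) (hap : a ≠ base M) (huA : u ∈ h.centA x) (hua : u • a = a) {v f : G}
    (hv : v ∈ h.res.grp (base M)) (hf : f ∈ h.res.grp (base M)) (hnp : n • base M = base M)
    (hnx : n * x * n⁻¹ = x * v) (hnu : n * u * n⁻¹ = u * f) (hvf : v = 1 ∨ f = 1) : v = 1 ∧ f = 1 := by
  have hna : n • a ≠ base M := fun hh => hap (smul_left_cancel n (hh.trans hnp.symm))
  have hfixn : ∀ w : G, w • a = a → (n * w * n⁻¹) • n • a = n • a := fun w hw => by
    rw [smul_smul, inv_mul_cancel_right, mul_smul, hw]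
  have hxn : (x * v) • n • a = n • a := hnx ▸ hfixn x ha
  have hun : (u * f) • n • a = n • a := hnu ▸ hfixn u hua
  rcases hvf with rfl | rfl
  · rw [mul_one] at hxn
    refine ⟨rfl, h.eq_one_of_grp_fix hf hna ?_⟩
    rw [mul_smul, ← eq_inv_smul_iff, invol_inv hu.invol, h.fix_line hfix hx hxp ha hap huA hua hxn] at hun
    exact hun
  · rw [mul_one] at hun
    have hxA : x ∈ h.centA u := h.centA_eq hfix hx hxp hu huA ▸ h.self_mem_centA hx hxp
    refine ⟨h.eq_one_of_grp_fix hv hna ?_, rfl⟩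
    rw [mul_smul, ← eq_inv_smul_iff, invol_inv hx.invol, h.fix_line hfix hu huA.1 hua hap hxA ha hun] at hxn
    exact hxn

/-- An element fixing the cosets of `E` in `A` and moving `x` to `x v`. -/
theorem exists_mover {x y : G} (hx : Bad z x) (hxp : x • base M = base M) (hyA : y ∈ h.centA x) {v : G}
    (hv : v ∈ h.res.grp (base M)) : ∃ n : G, n • base M = base M ∧ n * x * n⁻¹ = x * v ∧
      ∃ f ∈ h.res.grp (base M), n * y * n⁻¹ = y * f := by
  by_cases hv1 : v = 1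
  · exact ⟨1, one_smul _ _, by rw [hv1]; group, 1, one_mem _, by group⟩
  -- the torus of another line
  obtain ⟨d, hd, hd1, hdv⟩ : ∃ d ∈ h.res.grp (base M), d ≠ 1 ∧ d ≠ v := by
    by_contra hh
    push Not at hh
    have hsub : ∀ w : DAt z (base M), w.1 = v := fun w =>
      hh w.1 (Or.inr w.2) (invol_ne_one (h.res.crit.orderOf_conj w.2.1))
    haveI : Subsingleton (DAt z (base M)) := ⟨fun w w' => Subtype.ext ((hsub w).trans (hsub w').symm)⟩
    have h3 : Nat.card (DAt z (base M)) ≤ 1 := Finite.card_le_one_iff_subsingleton.2 inferInstance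
    have h2 := h.two_le
    rw [card_DAt] at h3
    omega
  have hdv1 : d * v ≠ 1 := fun hh => hdv (by
    calc d = d * (v * v) := by rw [h.res.grp_sq hv, mul_one]
      _ = v := by rw [← mul_assoc, hh, one_mul])
  have hxd := h.commute_grp hx hxp hd
  have hx' : Bad z (x * d) := hxd.eq ▸ h.bad_translate' hx hxp hd
  have hxp' : (x * d) • base M = base M := by rw [mul_smul, h.res.grp_smul hd, hxp]
  have hA : h.centA (x * d) = h.centA x := h.centA_eq hfix hx hxp hx'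
    (mul_mem (h.self_mem_centA hx hxp) (h.grp_le_centA hx hxp hd))
  obtain ⟨a', hap', ha'⟩ := h.res.bad_two_fix hx' hxp'
  obtain ⟨c, hcp, hcd, hcu⟩ := h.exists_torus' hfix hx' hxp' ha' hap' hd hd1 (mul_mem hd hv) hdv1
  refine ⟨c, hcp, ?_, ?_⟩
  · calc c * x * c⁻¹ = c * ((x * d) * d) * c⁻¹ := by rw [mul_assoc x, h.res.grp_sq hd, mul_one]
      _ = (c * (x * d) * c⁻¹) * (c * d * c⁻¹) := by group
      _ = x * (d * d) * v := by rw [(hcu _ hx' hxp' ha').eq, mul_inv_cancel_right, hcd]; group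
      _ = x * v := by rw [h.res.grp_sq hd, mul_one]
  obtain ⟨e, he, w, hw, hwa, rfl⟩ := h.exists_decomp hfix hx' hxp' ha' hap' (hA.symm ▸ hyA)
  have hcw : c * w * c⁻¹ = w := by
    by_cases hw1 : w = 1
    · rw [hw1]; group
    have hwb : Bad z w := ⟨invol_iff.2 ⟨h.centA_sq hfix hx' hxp' hw, hw1⟩,
      fun hh => hap' (h.res.crit.fix_unique hh hwa hw.1)⟩
    rw [(hcu w hwb hw.1 hwa).eq, mul_inv_cancel_right]
  have he' : c * e * c⁻¹ ∈ h.res.grp (base M) := h.res.grp_conj hcp he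
  refine ⟨e * (c * e * c⁻¹), mul_mem he he', ?_⟩
  calc c * (e * w) * c⁻¹ = (c * e * c⁻¹) * (c * w * c⁻¹) := by group
    _ = (c * e * c⁻¹) * w := by rw [hcw]
    _ = w * (c * e * c⁻¹) := ((hw.2.2 _ he').eq).symm
    _ = (e * w) * (e * (c * e * c⁻¹)) := by
      rw [(hw.2.2 e he).symm.eq, mul_assoc w e, ← mul_assoc e e, h.res.grp_sq he, one_mul]

/-- An element of the block really moving `x`. -/
theorem exists_block_mover {x y : G} (hx : Bad z x) (hy : Bad z y) (hne : x ≠ y) (hxp : x • base M = base M)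
    (hyA : y ∈ h.centA x) {a : G ⧸ M} (ha : x • a = a) (hya : y • a = a) (hap : a ≠ base M) :
    ∃ k f : G, k • base M = base M ∧ (∀ e ∈ h.res.grp (base M), Commute k e) ∧
      f ∈ h.res.grp (base M) ∧ f ≠ 1 ∧ k * x * k⁻¹ = f * x := by
  classical
  set P := base M
  let E := h.res.grp P
  have hxA := h.self_mem_centA hx hxp
  have hxy : Bad z (x * y) := by
    refine ⟨invol_iff.2 ⟨h.centA_sq hfix hx hxp (mul_mem hxA hyA), fun hh => hne ?_⟩,
      fun hh => hap (h.res.crit.fix_unique hh (by rw [mul_smul, hya, ha]) (by rw [mul_smul, hyA.1, hxp]))⟩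
    exact (eq_inv_of_mul_eq_one_left hh).trans (invol_inv hy.invol)
  have hconjE : ∀ {c : G}, c • P = P → ∀ w ∈ E, c * w * c⁻¹ ∈ E := fun hc w hw => h.res.grp_conj hc hw
  -- the partner is well defined
  have huniq : ∀ {n n' v f f' : G}, v ∈ E → f ∈ E → f' ∈ E → n • P = P → n' • P = P →
      n * x * n⁻¹ = x * v → n' * x * n'⁻¹ = x * v → n * y * n⁻¹ = y * f → n' * y * n'⁻¹ = y * f' → f = f' := by
    intro n n' v f f' hv hf hf' hnp hnp' hnx hnx' hny hny'
    have hni : n'⁻¹ • P = P := inv_smul_eq_iff.2 hnp'.symm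
    have h1 : n'⁻¹ * n * x * (n'⁻¹ * n)⁻¹ = x * 1 := by
      rw [show n'⁻¹ * n * x * (n'⁻¹ * n)⁻¹ = n'⁻¹ * (n * x * n⁻¹) * n' by group, hnx, ← hnx']; group
    have h2 : n'⁻¹ * n * y * (n'⁻¹ * n)⁻¹ = y * (n'⁻¹ * (f' * f) * n') := by
      rw [show n'⁻¹ * n * y * (n'⁻¹ * n)⁻¹ = n'⁻¹ * (n * y * n⁻¹) * n' by group, hny]
      calc n'⁻¹ * (y * f) * n' = n'⁻¹ * ((y * f') * f'⁻¹ * f) * n' := by group
        _ = n'⁻¹ * ((n' * y * n'⁻¹) * (f' * f)) * n' := by
          rw [hny', inv_eq_of_mul_eq_one_left (h.res.grp_sq hf')]; group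
        _ = _ := by group
    have hmem : n'⁻¹ * (f' * f) * n' ∈ E := by
      have := hconjE hni _ (mul_mem hf' hf)
      rwa [inv_inv] at this
    have h3 := (h.eq_one_of_fixes hfix hx hy hxp ha hap hyA hya (one_mem _) hmem
      (by rw [mul_smul, hnp, hni]) h1 h2 (Or.inl rfl)).2
    have h4 : f' * f = 1 := by
      calc f' * f = n' * (n'⁻¹ * (f' * f) * n') * n'⁻¹ := by group
        _ = 1 := by rw [h3]; group
    exact (eq_inv_of_mul_eq_one_right h4).trans (inv_eq_of_mul_eq_one_left (h.res.grp_sq hf'))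
  -- a first mover
  obtain ⟨e₀, ⟨he₀z, he₀p⟩⟩ : Nonempty (DAt z P) := (Nat.card_pos_iff.1 (by
    rw [card_DAt]; have := h.two_le; omega)).1
  have he₀ : e₀ ∈ E := Or.inr ⟨he₀z, he₀p⟩
  have he₀1 : e₀ ≠ 1 := invol_ne_one (h.res.crit.orderOf_conj he₀z)
  obtain ⟨n, hnp, hnx, f₀, hf₀, hny⟩ := h.exists_mover hfix hS hloc hx hxp hyA he₀
  have hf₀1 : f₀ ≠ 1 := fun hh => he₀1
    (h.eq_one_of_fixes hfix hx hy hxp ha hap hyA hya he₀ hf₀ hnp hnx hny (Or.inr hh)).1
  have hf₀e : f₀ ≠ e₀ := by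
    intro hh
    refine he₀1 (h.eq_one_of_fixes hfix hx hxy hxp ha hap (mul_mem hxA hyA) (by rw [mul_smul, hya, ha]) he₀
      (one_mem _) hnp hnx (f := 1) ?_ (Or.inr rfl)).1
    rw [show n * (x * y) * n⁻¹ = (n * x * n⁻¹) * (n * y * n⁻¹) by group, hnx, hny, hh, mul_one]
    calc x * e₀ * (y * e₀) = x * (e₀ * y) * e₀ := by group
      _ = x * y * (e₀ * e₀) := by rw [(hyA.2.2 e₀ he₀).symm.eq]; group
      _ = x * y := by rw [h.res.grp_sq he₀, mul_one]
  -- the torus
  obtain ⟨g, hg, hga, -⟩ := h.res.crit.exists_commuting_invol hx.invol ha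
  obtain ⟨t, ht, htg⟩ := h.res.crit.exists_midpoint he₀z hg he₀p hga hap.symm
  have htp := h.res.crit.smul_eq_of_conj hg htg he₀p hga
  have hu : ∀ {w k : G}, IsConj z w → w • P = P → IsConj z k → k * w * k⁻¹ = g →
      ∀ u : G, Bad z u → u • P = P → u • a = a → Commute u k := fun hw hwp hk hkg u hu hup hua =>
    h.res.crit.commute_midpoint hw hg hk hwp hga hap.symm hkg (h.commute_grp hu hup (Or.inr ⟨hw, hwp⟩))
      (h.commute_grp hu hua (Or.inr ⟨hg, hga⟩))
  have htor : ∀ w ∈ E, w ≠ 1 → ∃ k : G, IsConj z k ∧ Commute x k ∧ k • P = a ∧ (k * t) • P = P ∧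
      (k * t) * e₀ * (k * t)⁻¹ = w ∧ (k * t) * x * (k * t)⁻¹ = x ∧ (k * t) * y * (k * t)⁻¹ = y := by
    intro w hw hw1
    obtain ⟨hwz, hwp⟩ := hw.resolve_left hw1
    obtain ⟨k, hk, hkg⟩ := h.res.crit.exists_midpoint hwz hg hwp hga hap.symm
    have hkp := h.res.crit.smul_eq_of_conj hg hkg hwp hga
    have hko := h.res.crit.orderOf_conj hk
    refine ⟨k, hk, hu hwz hwp hk hkg x hx hxp ha, hkp, ?_, ?_, ?_, ?_⟩
    · rw [mul_smul, htp, ← hkp, smul_smul, invol_mul_self hko, one_smul]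
    · rw [show k * t * e₀ * (k * t)⁻¹ = k * (t * e₀ * t⁻¹) * k⁻¹ by group, htg, ← hkg]
      calc k * (k * w * k⁻¹) * k⁻¹ = (k * k) * w * (k * k)⁻¹ := by group
        _ = w := by rw [invol_mul_self hko, inv_one, one_mul, mul_one]
    · rw [← ((hu hwz hwp hk hkg x hx hxp ha).mul_right (hu he₀z he₀p ht htg x hx hxp ha)).eq,
        mul_inv_cancel_right]
    · rw [← ((hu hwz hwp hk hkg y hy hyA.1 hya).mul_right (hu he₀z he₀p ht htg y hy hyA.1 hya)).eq,
        mul_inv_cancel_right]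
  obtain ⟨k, hk, hxk, hkp, hcp, hce, hcx, -⟩ := htor f₀ hf₀ hf₀1
  set c := k * t with hc_def
  have hl := hloc x ⟨hx.invol, P, a, hap.symm, hxp, ha⟩
  obtain ⟨d₁, ⟨hd₁, hd₁p⟩, hd₁e⟩ : ∃ d, (IsConj z d ∧ d • P = P) ∧ d ≠ e₀ := by
    by_contra hh
    push Not at hh
    haveI : Subsingleton (DAt z P) := ⟨fun w w' => Subtype.ext ((hh w.1 w.2).trans (hh w'.1 w'.2).symm)⟩
    have h3 : Nat.card (DAt z P) ≤ 1 := Finite.card_le_one_iff_subsingleton.2 inferInstance
    have h2 := h.two_le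
    rw [card_DAt] at h3
    omega
  have hxe₀ : Commute x e₀ := h.commute_grp hx hxp he₀
  have hL : ∀ {m v f : G}, v ∈ E → f ∈ E → m • P = P → m * x * m⁻¹ = x * v → m * y * m⁻¹ = y * f →
      f = c * v * c⁻¹ := by
    intro m v f hv hf hmp hmx hmy
    by_cases hv1 : v = 1
    · rw [huniq hv hf (one_mem E) hmp (one_smul G P) hmx (by rw [hv1]; group) hmy (by group), hv1]
      group
    obtain ⟨k', hk', hxk', hkp', hdp, hde, hdx, hdy⟩ := htor v hv hv1
    set d := k' * t with hd_def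
    have hdi : d⁻¹ • P = P := inv_smul_eq_iff.2 hdp.symm
    have hdx' : d⁻¹ * x * d = x := by
      calc d⁻¹ * x * d = d⁻¹ * (d * x * d⁻¹) * d := by rw [hdx]
        _ = x := by group
    have hdy' : d⁻¹ * y * d = y := by
      calc d⁻¹ * y * d = d⁻¹ * (d * y * d⁻¹) * d := by rw [hdy]
        _ = y := by group
    have h1 : d * n * d⁻¹ * x * (d * n * d⁻¹)⁻¹ = x * v := by
      calc d * n * d⁻¹ * x * (d * n * d⁻¹)⁻¹ = d * (n * (d⁻¹ * x * d) * n⁻¹) * d⁻¹ := by group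
        _ = (d * x * d⁻¹) * (d * e₀ * d⁻¹) := by rw [hdx', hnx]; group
        _ = x * v := by rw [hdx, hde]
    have h2 : d * n * d⁻¹ * y * (d * n * d⁻¹)⁻¹ = y * (d * f₀ * d⁻¹) := by
      calc d * n * d⁻¹ * y * (d * n * d⁻¹)⁻¹ = d * (n * (d⁻¹ * y * d) * n⁻¹) * d⁻¹ := by group
        _ = (d * y * d⁻¹) * (d * f₀ * d⁻¹) := by rw [hdy', hny]; group
        _ = _ := by rw [hdy]
    rw [huniq hv hf (hconjE hdp f₀ hf₀) hmp (by rw [mul_smul, mul_smul, hdi, hnp, hdp]) hmx h1 hmy h2,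
      ← hde, ← hce]
    have hcm := hS.swap_comm hl hx.invol hap hxp ha he₀z hd₁ hxe₀
      (h.commute_grp hx hxp (Or.inr ⟨hd₁, hd₁p⟩)) he₀p hd₁p hd₁e.symm ht (hu he₀z he₀p ht htg x hx hxp ha) htp
      hk hxk hkp hk' hxk' hkp' he₀z hxe₀
    rw [← hc_def, ← hd_def] at hcm
    -- `c` and `d` commute on `E`
    have hcm' : Commute (d * c * d⁻¹ * c⁻¹) e₀ := by
      have := hcm.inv_left
      simpa [mul_assoc] using this
    have h5 : (c⁻¹ * d⁻¹ * c * d) * e₀ * (c⁻¹ * d⁻¹ * c * d)⁻¹ = e₀ := by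
      have hm' := hS.swap_comm hl hx.invol hap hxp ha he₀z hd₁ hxe₀
        (h.commute_grp hx hxp (Or.inr ⟨hd₁, hd₁p⟩)) he₀p hd₁p hd₁e.symm ht (hu he₀z he₀p ht htg x hx hxp ha) htp
        hk hxk hkp hk' hxk' hkp' (m := (d * c) * e₀ * (d * c)⁻¹)
        (he₀z.trans (isConj_iff.2 ⟨d * c, rfl⟩))
        (h.commute_grp hx hxp (hconjE (by rw [mul_smul, hcp, hdp]) e₀ he₀))
      rw [← hc_def, ← hd_def] at hm'
      have h6 : (c * d * c⁻¹ * d⁻¹) * ((d * c) * e₀ * (d * c)⁻¹) * (c * d * c⁻¹ * d⁻¹)⁻¹ =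
          (d * c) * e₀ * (d * c)⁻¹ := by rw [hm'.eq, mul_inv_cancel_right]
      calc c⁻¹ * d⁻¹ * c * d * e₀ * (c⁻¹ * d⁻¹ * c * d)⁻¹
          = (d * c)⁻¹ * ((c * d * c⁻¹ * d⁻¹) * ((d * c) * e₀ * (d * c)⁻¹) * (c * d * c⁻¹ * d⁻¹)⁻¹) * (d * c) := by
            group
        _ = e₀ := by rw [h6]; group
    calc d * (c * e₀ * c⁻¹) * d⁻¹ = (d * c) * e₀ * (d * c)⁻¹ := by group
      _ = (d * c) * ((c⁻¹ * d⁻¹ * c * d) * e₀ * (c⁻¹ * d⁻¹ * c * d)⁻¹) * (d * c)⁻¹ := by rw [h5]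
      _ = c * (d * e₀ * d⁻¹) * c⁻¹ := by group
  -- `c` commutes on `E` with the mover
  have hnc : ∀ v ∈ E, n * (c * v * c⁻¹) * n⁻¹ = c * (n * v * n⁻¹) * c⁻¹ := by
    intro v hv
    obtain ⟨m, hmp, hmx, f, hf, hmy⟩ := h.exists_mover hfix hS hloc hx hxp hyA hv
    have hf' := hL hv hf hmp hmx hmy
    have h1 : n * m * x * (n * m)⁻¹ = x * (e₀ * (n * v * n⁻¹)) := by
      calc n * m * x * (n * m)⁻¹ = n * (m * x * m⁻¹) * n⁻¹ := by group
        _ = (n * x * n⁻¹) * (n * v * n⁻¹) := by rw [hmx]; group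
        _ = _ := by rw [hnx, mul_assoc]
    have h2 : n * m * y * (n * m)⁻¹ = y * (f₀ * (n * f * n⁻¹)) := by
      calc n * m * y * (n * m)⁻¹ = n * (m * y * m⁻¹) * n⁻¹ := by group
        _ = (n * y * n⁻¹) * (n * f * n⁻¹) := by rw [hmy]; group
        _ = _ := by rw [hny, mul_assoc]
    have h3 := hL (mul_mem he₀ (hconjE hnp v hv)) (mul_mem hf₀ (hconjE hnp f hf))
      (by rw [mul_smul, hmp, hnp]) h1 h2
    rw [hf', show c * (e₀ * (n * v * n⁻¹)) * c⁻¹ = (c * e₀ * c⁻¹) * (c * (n * v * n⁻¹) * c⁻¹) by group, hce] at h3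
    exact mul_left_cancel h3
  have hni : n⁻¹ • P = P := inv_smul_eq_iff.2 hnp.symm
  have hci : c⁻¹ • P = P := inv_smul_eq_iff.2 hcp.symm
  have hback : ∀ e ∈ E, c⁻¹ * (n⁻¹ * e * n) * c ∈ E ∧ n * (c⁻¹ * (n⁻¹ * e * n) * c) * n⁻¹ = c⁻¹ * e * c := by
    intro e he
    have h1 : n⁻¹ * e * n ∈ E := by have := hconjE hni e he; rwa [inv_inv] at this
    have h2 : c⁻¹ * (n⁻¹ * e * n) * c ∈ E := by have := hconjE hci _ h1; rwa [inv_inv] at this
    refine ⟨h2, ?_⟩
    have h3 : c * (n * (c⁻¹ * (n⁻¹ * e * n) * c) * n⁻¹) * c⁻¹ = e := by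
      rw [← hnc _ h2]; group
    calc n * (c⁻¹ * (n⁻¹ * e * n) * c) * n⁻¹
        = c⁻¹ * (c * (n * (c⁻¹ * (n⁻¹ * e * n) * c) * n⁻¹) * c⁻¹) * c := by group
      _ = c⁻¹ * e * c := by rw [h3]
  refine ⟨c * n * c⁻¹ * n⁻¹, f₀ * e₀, by rw [mul_smul, hni, mul_smul, hci, mul_smul, hnp, hcp], fun e he => ?_,
    mul_mem hf₀ he₀, fun hh => hf₀e ((eq_inv_of_mul_eq_one_left hh).trans
      (inv_eq_of_mul_eq_one_left (h.res.grp_sq he₀))), ?_⟩
  · refine mul_inv_eq_iff_eq_mul.1 ?_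
    rw [show c * n * c⁻¹ * n⁻¹ * e * (c * n * c⁻¹ * n⁻¹)⁻¹ =
      c * (n * (c⁻¹ * (n⁻¹ * e * n) * c) * n⁻¹) * c⁻¹ by group, (hback e he).2]
    group
  · have hnix : n⁻¹ * x * n = x * (n⁻¹ * e₀ * n) := by
      calc n⁻¹ * x * n = n⁻¹ * ((x * e₀) * e₀) * n := by rw [mul_assoc x, h.res.grp_sq he₀, mul_one]
        _ = n⁻¹ * ((n * x * n⁻¹) * e₀) * n := by rw [hnx]
        _ = _ := by group
    have hcx' : c⁻¹ * x * c = x := by
      calc c⁻¹ * x * c = c⁻¹ * (c * x * c⁻¹) * c := by rw [hcx]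
        _ = x := by group
    calc c * n * c⁻¹ * n⁻¹ * x * (c * n * c⁻¹ * n⁻¹)⁻¹
        = c * (n * (c⁻¹ * (n⁻¹ * x * n) * c) * n⁻¹) * c⁻¹ := by group
      _ = c * (n * ((c⁻¹ * x * c) * (c⁻¹ * (n⁻¹ * e₀ * n) * c)) * n⁻¹) * c⁻¹ := by rw [hnix]; group
      _ = c * ((n * x * n⁻¹) * (n * (c⁻¹ * (n⁻¹ * e₀ * n) * c) * n⁻¹)) * c⁻¹ := by rw [hcx']; group
      _ = (c * x * c⁻¹) * (c * e₀ * c⁻¹) * e₀ := by rw [hnx, (hback e₀ he₀).2]; group
      _ = x * (f₀ * e₀) := by rw [hcx, hce, mul_assoc]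
      _ = f₀ * e₀ * x := (h.commute_grp hx hxp (mul_mem hf₀ he₀)).eq

/-- The block of `x`. -/
def blockK (x : G) : Subgroup G where
  carrier := {g | g • base M = base M ∧ (∀ e ∈ h.res.grp (base M), Commute g e) ∧
    ∃ e ∈ h.res.grp (base M), g * x * g⁻¹ = e * x}
  one_mem' := ⟨one_smul _ _, fun e _ => Commute.one_left e, 1, one_mem _, by group⟩
  mul_mem' := by
    rintro a b ⟨hap, haE, e, he, hae⟩ ⟨hbp, hbE, f, hf, hbf⟩
    refine ⟨by rw [mul_smul, hbp, hap], fun d hd => (haE d hd).mul_left (hbE d hd), f * e, mul_mem hf he, ?_⟩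
    rw [show a * b * x * (a * b)⁻¹ = a * (b * x * b⁻¹) * a⁻¹ by group, hbf,
      show a * (f * x) * a⁻¹ = (a * f * a⁻¹) * (a * x * a⁻¹) by group,
      show a * f * a⁻¹ = f by rw [(haE f hf).eq, mul_inv_cancel_right], hae, mul_assoc]
  inv_mem' := by
    rintro a ⟨hap, haE, e, he, hae⟩
    refine ⟨inv_smul_eq_iff.2 hap.symm, fun d hd => (haE d hd).inv_left, e, he, ?_⟩
    have h1 : a * (e * x) * a⁻¹ = x := by
      rw [show a * (e * x) * a⁻¹ = (a * e * a⁻¹) * (a * x * a⁻¹) by group,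
        show a * e * a⁻¹ = e by rw [(haE e he).eq, mul_inv_cancel_right], hae, ← mul_assoc, h.res.grp_sq he,
        one_mul]
    calc a⁻¹ * x * a⁻¹⁻¹ = a⁻¹ * (a * (e * x) * a⁻¹) * a := by rw [h1, inv_inv]
      _ = e * x := by group

/-- **Orbit count of the block.** -/
theorem eq_of_klein {x y : G} (hx : Bad z x) (hy : Bad z y) (hc : Commute x y) (hxp : x • base M = base M)
    (hyp : y • base M = base M) {a : G ⧸ M} (hap : a ≠ base M) (ha : x • a = a) (hya : y • a = a) :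
    x = y := by
  classical
  haveI : Fact (Nat.Prime 2) := ⟨Nat.prime_two⟩
  by_contra hne
  set P := base M
  let E := h.res.grp P
  let A := h.centA x
  let H := h.blockK x
  let W : Subgroup G := A ⊓ MulAction.stabilizer G a
  obtain ⟨n, hn⟩ := IsPGroup.iff_card.1 (h.res.isPGroup_grp P)
  have hn0 : n ≠ 0 := by
    rintro rfl
    have h1 := h.res.card_grp P
    have h2 := h.two_le
    rw [pow_zero] at hn
    omega
  -- `4` divides `|W|`
  have hxW : x ∈ W := ⟨h.self_mem_centA hx hxp, ha⟩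
  have hyW : y ∈ W := ⟨⟨hyp, hc.symm, fun _ he => h.commute_grp hy hyp he⟩, hya⟩
  obtain ⟨m, hm⟩ : ∃ m : ℕ, Nat.card W = 2 ^ m := IsPGroup.iff_card.1 fun v =>
    ⟨1, Subtype.ext (by show (v : G) ^ 2 ^ 1 = 1; rw [pow_one, pow_two, h.centA_sq hfix hx hxp v.2.1])⟩
  have h4 : 4 ∣ Nat.card W := by
    have h3 : 2 < Nat.card W := by
      let f : Fin 3 → W := ![1, ⟨x, hxW⟩, ⟨y, hyW⟩]
      have hf : Function.Injective f := by
        intro i j hij
        have hx1 := invol_ne_one hx.invol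
        have hy1 := invol_ne_one hy.invol
        fin_cases i <;> fin_cases j <;>
          simp_all [f, Subtype.ext_iff, Ne.symm hne, Ne.symm hx1, Ne.symm hy1]
      have := Nat.card_le_card_of_injective f hf
      rw [Nat.card_fin] at this
      omega
    rw [hm] at h3 ⊢
    rcases m with - | - | m
    · simp at h3
    · simp at h3
    · exact ⟨2 ^ m, by ring⟩
  -- `A = E W`
  have hA : Nat.card A = Nat.card E * Nat.card W := by
    rw [← Nat.card_prod]
    refine (Nat.card_eq_of_bijective (fun p : E × W => (⟨p.1.1 * p.2.1,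
      mul_mem (h.grp_le_centA hx hxp p.1.2) p.2.2.1⟩ : A)) ⟨?_, ?_⟩).symm
    · rintro ⟨e, w⟩ ⟨e', w'⟩ hh
      have h1 : (e : G) * w = e' * w' := congrArg Subtype.val hh
      have h2 : ((e' : G)⁻¹ * e) • a = a := by
        rw [show (e' : G)⁻¹ * e = w' * (w : G)⁻¹ by
          rw [eq_mul_inv_iff_mul_eq, mul_assoc, h1, inv_mul_cancel_left], mul_smul,
          inv_smul_eq_iff.2 (MulAction.mem_stabilizer_iff.1 w.2.2).symm, MulAction.mem_stabilizer_iff.1 w'.2.2]
      have h3 : e' = e := Subtype.ext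
        (inv_mul_eq_one.1 (h.eq_one_of_grp_fix (mul_mem (inv_mem e'.2) e.2) hap h2))
      subst h3
      exact Prod.ext rfl (Subtype.ext (mul_left_cancel h1))
    · rintro ⟨g, hg⟩
      obtain ⟨e, he, w, hw, hwa, rfl⟩ := h.exists_decomp hfix hx hxp ha hap hg
      exact ⟨(⟨e, he⟩, ⟨w, hw, hwa⟩), rfl⟩
  -- every translation occurs
  obtain ⟨k₀, f₀, hk₀p, hk₀E, hf₀, hf₀1, hk₀x⟩ :=
    h.exists_block_mover hfix hS hloc hx hy hne hxp hyW.1 ha hya hap
  have hk₀H : k₀ ∈ H := ⟨hk₀p, hk₀E, f₀, hf₀, hk₀x⟩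
  have htor : ∀ g ∈ H, ∀ f ∈ E, f ≠ 1 → g * x * g⁻¹ = f * x → ∀ f' ∈ E, f' ≠ 1 →
      ∃ c : G, c * g * c⁻¹ ∈ H ∧ c * g * c⁻¹ * x * (c * g * c⁻¹)⁻¹ = f' * x := by
    rintro g ⟨hgp, hgE, -⟩ f hf hf1 hgf f' hf' hf1'
    obtain ⟨c, hcp, hcf, hcu⟩ := h.exists_torus' hfix hx hxp ha hap hf hf1 hf' hf1'
    have hci : c⁻¹ • P = P := inv_smul_eq_iff.2 hcp.symm
    have hcx := hcu x hx hxp ha
    have heq : c * g * c⁻¹ * x * (c * g * c⁻¹)⁻¹ = f' * x := by
      calc c * g * c⁻¹ * x * (c * g * c⁻¹)⁻¹ = c * (g * (c⁻¹ * x * c) * g⁻¹) * c⁻¹ := by group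
        _ = c * (f * x) * c⁻¹ := by rw [show c⁻¹ * x * c = x by
              rw [mul_assoc, ← hcx.eq, inv_mul_cancel_left], hgf]
        _ = (c * f * c⁻¹) * (c * x * c⁻¹) := by group
        _ = _ := by rw [hcf, hcx.eq, mul_inv_cancel_right]
    refine ⟨c, ⟨by rw [mul_smul, mul_smul, hci, hgp, hcp], fun d hd => ?_, f', hf', heq⟩, heq⟩
    simpa [mul_assoc] using Commute.map (hgE _ (h.res.grp_conj hci hd)) (MulAut.conj c).toMonoidHom
  have hsurj : ∀ f : E, ∃ k ∈ H, k * x * k⁻¹ = (f : G) * x := by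
    intro f
    by_cases hf1 : (f : G) = 1
    · exact ⟨1, one_mem _, by rw [hf1]; group⟩
    obtain ⟨c, hc1, hc2⟩ := htor k₀ hk₀H f₀ hf₀ hf₀1 hk₀x f f.2 hf1
    exact ⟨_, hc1, hc2⟩
  have hAH : ∀ g ∈ A, g ∈ H := fun g hg =>
    ⟨hg.1, hg.2.2, 1, one_mem _, by rw [hg.2.1.eq, mul_inv_cancel_right, one_mul]⟩
  choose k hk hkx using hsurj
  have hH : Nat.card H = Nat.card E * Nat.card A := by
    rw [← Nat.card_prod]
    refine (Nat.card_eq_of_bijective (fun p : E × A => (⟨k p.1 * p.2.1,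
      mul_mem (hk p.1) (hAH _ p.2.2)⟩ : H)) ⟨?_, ?_⟩).symm
    · rintro ⟨f, α⟩ ⟨f', α'⟩ hh
      have h1 : k f * α = k f' * α' := congrArg Subtype.val hh
      have hx' : ∀ (f : E) (α : A), k f * α * x * (k f * α)⁻¹ = (f : G) * x := fun f α => by
        rw [show k f * α * x * (k f * α)⁻¹ = k f * ((α : G) * x * (α : G)⁻¹) * (k f)⁻¹ by group, α.2.2.1.eq,
          mul_inv_cancel_right, hkx]
      have h2 : f = f' := Subtype.ext (mul_right_cancel ((hx' f α).symm.trans (h1 ▸ hx' f' α')))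
      subst h2
      exact Prod.ext rfl (Subtype.ext (mul_left_cancel h1))
    · rintro ⟨g, hg⟩
      obtain ⟨hgp, hgE, f, hf, hgf⟩ := id hg
      obtain ⟨hkp, hkE, -⟩ := id (hk ⟨f, hf⟩)
      refine ⟨(⟨f, hf⟩, ⟨(k ⟨f, hf⟩)⁻¹ * g, by rw [mul_smul, hgp, inv_smul_eq_iff, hkp], ?_,
        fun e he => ((hkE e he).inv_left).mul_left (hgE e he)⟩), Subtype.ext (mul_inv_cancel_left _ _)⟩
      refine mul_inv_eq_iff_eq_mul.1 ?_
      rw [show (k ⟨f, hf⟩)⁻¹ * g * x * ((k ⟨f, hf⟩)⁻¹ * g)⁻¹ =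
        (k ⟨f, hf⟩)⁻¹ * (g * x * g⁻¹) * k ⟨f, hf⟩ by group, hgf, ← hkx ⟨f, hf⟩]
      group
  -- elements of the block with a fixed point away from `P`
  let α := {b : G ⧸ M // b ≠ P}
  letI : MulAction H α :=
    { smul := fun g b => ⟨(g : G) • b.1, fun hh => b.2 (smul_left_cancel (g : G) (hh.trans g.2.1.symm))⟩
      one_smul := fun b => Subtype.ext (one_smul G b.1)
      mul_smul := fun g l b => Subtype.ext (mul_smul (g : G) (l : G) b.1) }
  have hsqA : ∀ g ∈ H, g * g ∈ A := by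
    rintro g ⟨hgp, hgE, f, hf, hgf⟩
    refine ⟨by rw [mul_smul, hgp, hgp], mul_inv_eq_iff_eq_mul.1 ?_, fun e he => (hgE e he).mul_left (hgE e he)⟩
    rw [show g * g * x * (g * g)⁻¹ = g * (g * x * g⁻¹) * g⁻¹ by group, hgf,
      show g * (f * x) * g⁻¹ = (g * f * g⁻¹) * (g * x * g⁻¹) by group,
      show g * f * g⁻¹ = f by rw [(hgE f hf).eq, mul_inv_cancel_right], hgf, ← mul_assoc, h.res.grp_sq hf,
      one_mul]
  have hbad : ∀ g ∈ H, g ≠ 1 → ∀ b : G ⧸ M, b ≠ P → g • b = b → Bad z g := by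
    intro g hg hg1 b hb hgb
    by_cases h2 : g * g = 1
    · exact ⟨invol_iff.2 ⟨h2, hg1⟩, fun hh => hb (h.res.crit.fix_unique hh hgb hg.1)⟩
    exfalso
    have hgg := hsqA g hg
    have hu : Bad z (g * g) := h.bad_of_centA hfix hx hxp hgg fun hh =>
      h2 (h.eq_one_of_grp_fix hh hb (by rw [mul_smul, hgb, hgb]))
    have hgA : g ∈ A := by
      show g ∈ h.centA x
      rw [← h.centA_eq hfix hx hxp hu hgg]
      exact ⟨hg.1, (Commute.refl g).mul_right (Commute.refl g), hg.2.1⟩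
    exact h2 (h.centA_sq hfix hx hxp hgA)
  let B := {g : H // Bad z (g : G)}
  have hfixed : ∀ g : H, Nat.card (MulAction.fixedBy α g) =
      if g = 1 then Nat.card α else if Bad z (g : G) then Nat.card E else 0 := by
    intro g
    split_ifs with h1 h2
    · subst h1
      exact Nat.card_congr (Equiv.subtypeUnivEquiv fun b => one_smul H b)
    · have h3 : Nat.card {b : G ⧸ M // (g : G) • b = b ∧ b ≠ P} + 1 = fix M (g : G) := by
        rw [fix, ← Finite.card_option, ← Nat.card_congr (Equiv.optionSubtypeNe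
          (⟨P, g.2.1⟩ : {c : G ⧸ M // (g : G) • c = c}))]
        exact Nat.card_congr (Equiv.optionCongr
          ⟨fun c => ⟨⟨c.1, c.2.1⟩, fun hh => c.2.2 (congrArg Subtype.val hh)⟩,
            fun c => ⟨c.1.1, c.1.2, fun hh => c.2 (Subtype.ext hh)⟩, fun _ => rfl, fun _ => rfl⟩)
      have h4 : Nat.card (MulAction.fixedBy α g) = Nat.card {b : G ⧸ M // (g : G) • b = b ∧ b ≠ P} :=
        Nat.card_congr ⟨fun b => ⟨b.1.1, congrArg Subtype.val (show g • b.1 = b.1 from b.2), b.1.2⟩,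
          fun b => ⟨⟨b.1, b.2.2⟩, Subtype.ext b.2.1⟩, fun _ => rfl, fun _ => rfl⟩
      have h5 := hfix _ h2
      have h6 : Nat.card E = deg M z + 1 := h.res.card_grp P
      rw [h4]
      omega
    · haveI : IsEmpty (MulAction.fixedBy α g) := ⟨fun b => h2 (hbad g g.2 (fun hh => h1 (Subtype.ext hh))
        b.1.1 b.1.2 (congrArg Subtype.val (show g • b.1 = b.1 from b.2)))⟩
      exact Nat.card_of_isEmpty
  letI := Fintype.ofFinite H
  have hB1 : ∀ g : H, Bad z (g : G) → g ≠ 1 := fun g hg hh => invol_ne_one hg.invol (by rw [hh]; rfl)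
  have hsum : Nat.card α + Nat.card B * Nat.card E =
      Nat.card (Quotient (MulAction.orbitRel H α)) * Nat.card H := by
    have h1 := Nat.card_congr (MulAction.sigmaFixedByEquivOrbitsProdGroup H α)
    rw [Nat.card_prod, Nat.card_sigma, Finset.sum_congr rfl fun g _ => hfixed g] at h1
    rw [← h1]
    have h2 : ∀ g : H, (if g = 1 then Nat.card α else if Bad z (g : G) then Nat.card E else 0) =
        (if g = 1 then Nat.card α else 0) + (if Bad z (g : G) then Nat.card E else 0) := fun g => by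
      by_cases hg : g = 1
      · rw [if_pos hg, if_pos hg, if_neg (fun hb => hB1 g hb hg), add_zero]
      · rw [if_neg hg, if_neg hg, zero_add]
    rw [Finset.sum_congr rfl fun g _ => h2 g, Finset.sum_add_distrib, Finset.sum_ite_eq' Finset.univ (1 : H),
      if_pos (Finset.mem_univ _), ← Finset.sum_filter, Finset.sum_const, smul_eq_mul, ← Fintype.card_subtype,
      ← Nat.card_eq_fintype_card]
  -- bad involutions of the block
  have hBsplit : Nat.card B = Nat.card {g : H // Bad z (g : G) ∧ (g : G) ∈ A} +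
      Nat.card {g : H // Bad z (g : G) ∧ (g : G) ∉ A} := by
    rw [← Nat.card_sum, ← Nat.card_congr (Equiv.sumCompl fun g : B => (g.1 : G) ∈ A)]
    exact Nat.card_congr (Equiv.sumCongr
      ⟨fun g => ⟨g.1.1, g.1.2, g.2⟩, fun g => ⟨⟨g.1, g.2.1⟩, g.2.2⟩, fun _ => rfl, fun _ => rfl⟩
      ⟨fun g => ⟨g.1.1, g.1.2, g.2⟩, fun g => ⟨⟨g.1, g.2.1⟩, g.2.2⟩, fun _ => rfl, fun _ => rfl⟩)
  have hBA : Nat.card {g : H // Bad z (g : G) ∧ (g : G) ∈ A} + Nat.card E = Nat.card A := by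
    rw [← Nat.card_congr (Equiv.sumCompl fun g : A => (g : G) ∉ E), Nat.card_sum]
    refine congrArg₂ (· + ·) (Nat.card_congr
      ⟨fun g => ⟨⟨g.1.1, g.2.2⟩, h.not_mem_grp_of_bad g.2.1⟩,
        fun g => ⟨⟨g.1.1, hAH _ g.1.2⟩, h.bad_of_centA hfix hx hxp g.1.2 g.2, g.1.2⟩,
        fun _ => rfl, fun _ => rfl⟩) (Nat.card_congr
      ⟨fun e => ⟨⟨e.1, h.grp_le_centA hx hxp e.2⟩, fun hh => hh e.2⟩,
        fun g => ⟨g.1.1, not_not.1 g.2⟩, fun _ => rfl, fun _ => rfl⟩)
  have hrest : Nat.card {g : H // Bad z (g : G) ∧ (g : G) ∉ A} = 0 ∨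
      Nat.card {g : H // Bad z (g : G) ∧ (g : G) ∉ A} + Nat.card E = Nat.card E * Nat.card E := by
    by_cases hemp : IsEmpty {g : H // Bad z (g : G) ∧ (g : G) ∉ A}
    · exact Or.inl Nat.card_of_isEmpty
    refine Or.inr ?_
    obtain ⟨⟨y₀, hy₀, hy₀A⟩⟩ := not_isEmpty_iff.1 hemp
    obtain ⟨hy₀p, hy₀E, f₁, hf₁, hy₀f⟩ := id y₀.2
    have hf₁1 : f₁ ≠ 1 := fun hh => hy₀A ⟨hy₀p, mul_inv_eq_iff_eq_mul.1 (by rw [hy₀f, hh, one_mul]), hy₀E⟩
    let E1 := {f : E // (f : G) ≠ 1}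
    have hex : ∀ f : E1, ∃ w : H, Bad z (w : G) ∧ (w : G) * x * (w : G)⁻¹ = (f.1 : G) * x := fun f => by
      obtain ⟨c, hc1, hc2⟩ := htor y₀ y₀.2 f₁ hf₁ hf₁1 hy₀f f.1 f.1.2 f.2
      exact ⟨⟨_, hc1⟩, hy₀.conj c, hc2⟩
    choose w hwb hwx using hex
    have hEH : ∀ e : E, (e : G) ∈ H := fun e => hAH _ (h.grp_le_centA hx hxp e.2)
    have hwx' : ∀ (f : E1) (e : E), ((e : G) * w f) * x * ((e : G) * w f)⁻¹ = (f.1 : G) * x := fun f e => by
      rw [show (e : G) * w f * x * ((e : G) * w f)⁻¹ = e * ((w f : G) * x * (w f : G)⁻¹) * (e : G)⁻¹ by group,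
        hwx, ((h.res.grp_commute e.2 f.1.2).mul_right (h.commute_grp hx hxp e.2).symm).eq, mul_inv_cancel_right]
    have hcard : Nat.card {g : H // Bad z (g : G) ∧ (g : G) ∉ A} = Nat.card (E1 × E) := by
      refine (Nat.card_eq_of_bijective (fun p : E1 × E => (⟨⟨p.2 * w p.1, mul_mem (hEH p.2) (w p.1).2⟩,
        h.bad_translate' (hwb p.1) (w p.1).2.1 p.2.2, fun hh => p.1.2 ?_⟩ :
          {g : H // Bad z (g : G) ∧ (g : G) ∉ A})) ⟨?_, ?_⟩).symm
      · have h1 := hwx' p.1 p.2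
        rw [hh.2.1.eq, mul_inv_cancel_right] at h1
        exact mul_right_cancel (h1.symm.trans (one_mul x).symm)
      · rintro ⟨f, e⟩ ⟨f', e'⟩ hh
        have h1 : (e : G) * w f = e' * w f' := congrArg (fun g => (g.1.1 : G)) hh
        have h2 : f = f' :=
          Subtype.ext (Subtype.ext (mul_right_cancel ((hwx' f e).symm.trans (h1 ▸ hwx' f' e'))))
        subst h2
        exact Prod.ext rfl (Subtype.ext (mul_right_cancel h1))
      · rintro ⟨⟨g, hg⟩, hgb, hgA⟩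
        obtain ⟨hgp, hgE, f, hf, hgf⟩ := id hg
        have hf1 : f ≠ 1 := fun hh => hgA ⟨hgp, mul_inv_eq_iff_eq_mul.1 (by rw [hgf, hh, one_mul]), hgE⟩
        set v : G := (w ⟨⟨f, hf⟩, hf1⟩).1
        have hv : Bad z v := hwb _
        have hvx : v * x * v⁻¹ = f * x := hwx ⟨⟨f, hf⟩, hf1⟩
        have hvp : v • P = P := (w ⟨⟨f, hf⟩, hf1⟩).2.1
        have hvE := (w ⟨⟨f, hf⟩, hf1⟩).2.2.1
        have hαA : v⁻¹ * g ∈ A := by
          refine ⟨by rw [mul_smul, hgp, inv_smul_eq_iff, hvp], mul_inv_eq_iff_eq_mul.1 ?_,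
            fun e he => ((hvE e he).inv_left).mul_left (hgE e he)⟩
          rw [show v⁻¹ * g * x * (v⁻¹ * g)⁻¹ = v⁻¹ * (g * x * g⁻¹) * v by group, hgf, ← hvx]
          group
        set β := v⁻¹ * g with hβ
        have hgv : g = v * β := by rw [hβ, mul_inv_cancel_left]
        have hcomm : Commute β v := by
          have h1 : (v * β) * (v * β) = 1 := hgv ▸ invol_mul_self hgb.invol
          calc β * v = β⁻¹ * v⁻¹ := by
                rw [inv_eq_of_mul_eq_one_left (h.centA_sq hfix hx hxp hαA),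
                  inv_eq_of_mul_eq_one_left (invol_mul_self hv.invol)]
            _ = (v * β)⁻¹ := (mul_inv_rev _ _).symm
            _ = v * β := inv_eq_of_mul_eq_one_left h1
        have hβE : β ∈ E := by
          by_contra hh
          have hub := h.bad_of_centA hfix hx hxp hαA hh
          refine hgA ?_
          show g ∈ A
          rw [hgv]
          refine mul_mem ?_ hαA
          show v ∈ h.centA x
          rw [← h.centA_eq hfix hx hxp hub hαA]
          exact ⟨hvp, hcomm.symm, hvE⟩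
        exact ⟨(⟨⟨f, hf⟩, hf1⟩, ⟨β, hβE⟩), Subtype.ext (Subtype.ext (by
          show β * v = g
          rw [hgv]; exact hcomm.eq))⟩
    have hE1 : Nat.card E1 + 1 = Nat.card E := by
      rw [← Finite.card_option, ← Nat.card_congr (Equiv.optionSubtypeNe (1 : E))]
      exact Nat.card_congr (Equiv.optionCongr (Equiv.subtypeEquivRight fun f =>
        ⟨fun hf hh => hf (by rw [hh]; rfl), fun hf hh => hf (Subtype.ext hh)⟩))
    rw [hcard, Nat.card_prod, ← Nat.succ_mul, Nat.succ_eq_add_one, hE1]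
  -- the number of points
  have hα : Nat.card α = Nat.card E ^ 3 := by
    have h1 : Nat.card α + 1 = Nat.card (G ⧸ M) := by
      rw [← Finite.card_option]; exact Nat.card_congr (Equiv.optionSubtypeNe P)
    have h2 := h.card_points hx
    have h3 := h.res.card_grp P
    rw [hfix x hx] at h2
    have h4 : deg M z + 2 + (deg M z + 2) * deg M z * (deg M z + 2 - 1) = (deg M z + 1) ^ 3 + 1 := by
      rw [show deg M z + 2 - 1 = deg M z + 1 by omega]; ring
    show _ = Nat.card E ^ 3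
    rw [h3]
    omega
  -- arithmetic
  set o := Nat.card (Quotient (MulAction.orbitRel H α))
  rw [hα, hBsplit, hH, hA] at hsum
  rw [hA] at hBA
  set q := Nat.card E with hq
  set w := Nat.card W
  set b1 := Nat.card {g : H // Bad z (g : G) ∧ (g : G) ∈ A}
  set b2 := Nat.card {g : H // Bad z (g : G) ∧ (g : G) ∉ A}
  obtain ⟨j, hj⟩ := h4
  have hq2 : 2 ∣ q := hn ▸ dvd_pow_self 2 hn0
  obtain ⟨i, hi⟩ := hq2
  have hqpos : 0 < q := Nat.card_pos
  rcases hrest with h0 | h0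
  · have key : q + w = w * o + 1 := by
      refine Nat.eq_of_mul_eq_mul_left (Nat.mul_pos hqpos hqpos) ?_
      calc q * q * (q + w) = q * q * q + q * (q * w) := by ring
        _ = q * q * q + q * (b1 + q) := by rw [hBA]
        _ = (q ^ 3 + (b1 + b2) * q) + q * q := by rw [h0]; ring
        _ = o * (q * (q * w)) + q * q := by rw [hsum]
        _ = q * q * (w * o + 1) := by ring
    rw [hi, hj] at key
    have : 2 * i + 4 * j = 2 * (2 * j * o) + 1 := by rw [key]; ring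
    omega
  · have key : 2 * q + w = w * o + 2 := by
      refine Nat.eq_of_mul_eq_mul_left (Nat.mul_pos hqpos hqpos) ?_
      calc q * q * (2 * q + w) = q * q * q + q * (q * w) + q * (q * q) := by ring
        _ = q * q * q + q * (b1 + q) + q * (b2 + q) := by rw [hBA, h0]
        _ = (q ^ 3 + (b1 + b2) * q) + 2 * (q * q) := by ring
        _ = o * (q * (q * w)) + 2 * (q * q) := by rw [hsum]
        _ = q * q * (w * o + 2) := by ring
    rw [hi, hj] at key
    have : 4 * i + 4 * j = 4 * (j * o) + 2 := by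
      calc 4 * i + 4 * j = 2 * (2 * i) + 4 * j := by ring
        _ = 4 * j * o + 2 := key
        _ = _ := by ring
    omega

/-- **No Klein pair.** -/
theorem noKlein : NoKlein M z := by
  intro x y a b hx hy hc hab hxa hxb hya hyb
  obtain ⟨g, hg⟩ := MulAction.exists_smul_eq G a (base M)
  have hconj : ∀ (v : G) (c : G ⧸ M), v • c = c → (g * v * g⁻¹) • g • c = g • c := fun v c hv => by
    rw [smul_smul, inv_mul_cancel_right, mul_smul, hv]
  have h1 := h.eq_of_klein hfix hS hloc (hx.conj g) (hy.conj g)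
    (by simpa [mul_assoc] using Commute.map hc (MulAut.conj g).toMonoidHom)
    (hg ▸ hconj x a hxa) (hg ▸ hconj y a hya) (a := g • b)
    (fun hh => hab (smul_left_cancel g (hg.trans hh.symm))) (hconj x b hxb) (hconj y b hyb)
  exact mul_left_cancel (mul_right_cancel h1)

end Regular

end EqRes

end CfsgLib.SECrit.Eq
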