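import Cfsg.Agent.Lib.Invol.SECriterion.SignKill

/-!
# The strong embedding criterion: transfer counted on the extremal conjugates

For a subgroup `S` of `M` of odd index and a two-subgroup `P` containing the involution `x`, the transfer
of a character of `S` at `x` only sees the cosets fixed by `P`: the others come in orbits of even length
on which the value is constant.
-/

set_option autoImplicit false
set_option linter.style.haveILetI false

namespace CfsgLib.SECrit

open CfsgLib.Invol Subgroup

universe u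

variable {X : Type*} [Finite X]

/-- A product of signs invariant under a two-group is the product over its fixed points. -/
theorem prod_sign_eq_fixed [Fintype X] {P : Type*} [Group P] [MulAction P X] (hP : IsPGroup 2 P) (f : X → ℤˣ)
    (hf : ∀ (g : P) (a : X), f (g • a) = f a) (hfix : ∀ a : X, (∀ g : P, g • a = a) → f a = -1)
    (hodd : Odd (Nat.card X)) : ∏ a, f a = -1 := by
  classical
  haveI : Fact (Nat.Prime 2) := ⟨Nat.prime_two⟩
  -- the set where `f` is `1` has no fixed point, so it has even cardinality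
  let Pos : SubMulAction P X := { carrier := {a | f a = 1}, smul_mem' := fun g a ha => by
                                    simp only [Set.mem_setOf_eq] at ha ⊢
                                    rw [hf, ha] }
  have hmod := hP.card_modEq_card_fixedPoints Pos
  have he : IsEmpty (MulAction.fixedPoints P Pos) := ⟨fun a => by
    have h1 : f (a.1.1) = 1 := a.1.2
    rw [hfix _ fun g => congrArg Subtype.val (a.2 g)] at h1
    exact absurd h1 (by decide)⟩
  rw [Nat.card_eq_zero.2 (Or.inl he), Nat.modEq_zero_iff_dvd] at hmod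
  have hcard : Nat.card Pos = (Finset.univ.filter fun a => f a = 1).card := by
    rw [← Fintype.card_subtype, ← Nat.card_eq_fintype_card]
    rfl
  have hneg : ∀ a ∈ Finset.univ.filter (fun a => ¬ f a = 1), f a = -1 := fun a ha =>
    (Int.units_eq_one_or (f a)).resolve_left (Finset.mem_filter.1 ha).2
  have hsum := Finset.card_filter_add_card_filter_not (s := (Finset.univ : Finset X)) fun a => f a = 1
  rw [Finset.card_univ, ← Nat.card_eq_fintype_card] at hsum
  rw [← Finset.prod_filter_mul_prod_filter_not Finset.univ fun a => f a = 1,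
    Finset.prod_eq_one (fun a ha => (Finset.mem_filter.1 ha).2), one_mul, Finset.prod_congr rfl hneg,
    Finset.prod_const]
  refine Odd.neg_one_pow ?_
  rw [Nat.odd_iff] at hodd ⊢
  rw [hcard] at hmod
  omega

variable {H : Type u} [Group H] [Finite H]

/-- **Extremal parity.** If `χ` is `-1` on every conjugate of `x` in `S` coming from a coset fixed by
the two-group `P ∋ x`, `P` centralizing `x`, then the transfer of `χ` at `x` is `-1`. -/
theorem transfer_eq_neg_one {S : Subgroup H} (hS : Odd S.index) (χ : S →* ℤˣ) {x : H} (hx : orderOf x = 2)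
    {P : Subgroup H} (hP : IsPGroup 2 P) (hxP : x ∈ P) (hPx : ∀ g ∈ P, Commute g x)
    (hext : ∀ k : H, (∀ g ∈ P, k⁻¹ * g * k ∈ S) → ∀ hm : k⁻¹ * x * k ∈ S, χ ⟨k⁻¹ * x * k, hm⟩ = -1) :
    MonoidHom.transfer χ x = -1 := by
  classical
  haveI : Fact (Nat.Prime 2) := ⟨Nat.prime_two⟩
  haveI : S.FiniteIndex := ⟨index_ne_zero_of_finite⟩
  letI := Fintype.ofFinite (Quotient (MulAction.orbitRel (zpowers x) (H ⧸ S)))
  letI := Fintype.ofFinite {a : H ⧸ S // x • a = a}
  rw [MonoidHom.transfer_eq_prod_quotient_orbitRel_zpowers_quot]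
  have hx2 : x ^ 2 = 1 := by rw [← hx, pow_orderOf_eq_one]
  -- the value at a fixed coset
  let val : H ⧸ S → ℤˣ := fun a => if hm : a.out⁻¹ * x * a.out ∈ S then χ ⟨_, hm⟩ else 1
  have hmem : ∀ q : Quotient (MulAction.orbitRel (zpowers x) (H ⧸ S)),
      q.out.out⁻¹ * x ^ Function.minimalPeriod (x • ·) q.out * q.out.out ∈ S := fun q =>
    QuotientGroup.out_conj_pow_minimalPeriod_mem S x q.out
  have hval : ∀ q : Quotient (MulAction.orbitRel (zpowers x) (H ⧸ S)),
      χ ⟨q.out.out⁻¹ * x ^ Function.minimalPeriod (x • ·) q.out * q.out.out, hmem q⟩ =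
        if x • q.out = q.out then val q.out else 1 := by
    intro q
    split_ifs with hq
    · have hm : q.out.out⁻¹ * x * q.out.out ∈ S := by
        rw [← smul_coe_eq_iff, QuotientGroup.out_eq']
        exact hq
      simp only [val, dif_pos hm]
      refine congrArg χ (Subtype.ext ?_)
      show q.out.out⁻¹ * x ^ _ * q.out.out = q.out.out⁻¹ * x * q.out.out
      rw [Function.minimalPeriod_eq_one_iff_isFixedPt.2 hq, pow_one]
    · refine (congrArg χ (show _ = (1 : S) from Subtype.ext ?_)).trans (map_one χ)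
      show q.out.out⁻¹ * x ^ _ * q.out.out = 1
      have hdvd : Function.minimalPeriod (x • ·) q.out ∣ 2 :=
        Function.IsPeriodicPt.minimalPeriod_dvd (by
          show ((x • ·)^[2]) q.out = q.out
          simp [smul_smul, invol_mul_self hx])
      rcases (Nat.dvd_prime Nat.prime_two).1 hdvd with h1 | h1
      · exact absurd (Function.minimalPeriod_eq_one_iff_isFixedPt.1 h1) hq
      · rw [h1, hx2, mul_one, inv_mul_cancel]
  rw [Finset.prod_congr rfl fun q _ => hval q, Finset.prod_ite, Finset.prod_const_one, mul_one]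
  -- the orbits of length one are the fixed cosets
  have horb : ∀ a : H ⧸ S, x • a = a → ∀ b : H ⧸ S, b ∈ MulAction.orbit (zpowers x) a → b = a := by
    rintro a ha b ⟨⟨g, hg⟩, rfl⟩
    exact MulAction.mem_stabilizer_iff.1 ((zpowers_le.2 (MulAction.mem_stabilizer_iff.2 ha)) hg)
  have hout : ∀ a : H ⧸ S, x • a = a →
      (Quotient.mk (MulAction.orbitRel (zpowers x) (H ⧸ S)) a).out = a := fun a ha =>
    horb a ha _ (MulAction.orbitRel_apply.1 (Quotient.exact (Quotient.out_eq _)))
  rw [show ∏ q ∈ Finset.univ.filter (fun q : Quotient (MulAction.orbitRel (zpowers x) (H ⧸ S)) =>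
      x • q.out = q.out), val q.out = ∏ a : {a : H ⧸ S // x • a = a}, val a.1 from
    Finset.prod_bij' (fun q hq => ⟨q.out, (Finset.mem_filter.1 hq).2⟩)
      (fun (a : {a : H ⧸ S // x • a = a}) _ => Quotient.mk _ a.1) (fun _ _ => Finset.mem_univ _)
      (fun a _ => Finset.mem_filter.2 ⟨Finset.mem_univ _, by rw [hout a.1 a.2]; exact a.2⟩)
      (fun q _ => Quotient.out_eq q) (fun a _ => Subtype.ext (hout a.1 a.2)) (fun _ _ => rfl)]
  letI : MulAction P {a : H ⧸ S // x • a = a} :=
    { smul := fun g a => ⟨(g : H) • a.1, by rw [smul_smul, ← (hPx g g.2).eq, mul_smul, a.2]⟩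
      one_smul := fun a => Subtype.ext (one_smul H a.1)
      mul_smul := fun g k a => Subtype.ext (mul_smul (g : H) (k : H) a.1) }
  refine prod_sign_eq_fixed hP (fun a : {a : H ⧸ S // x • a = a} => val a.1) ?_ ?_ ?_
  · intro g a
    obtain ⟨k, hk⟩ := QuotientGroup.mk_surjective a.1
    set b : H ⧸ S := (g : H) • a.1 with hb
    show val b = val a.1
    have hma : a.1.out⁻¹ * x * a.1.out ∈ S := by rw [← smul_coe_eq_iff, QuotientGroup.out_eq']; exact a.2
    have hbx : x • b = b := by rw [hb, smul_smul, ← (hPx g g.2).eq, mul_smul, a.2]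
    have hmb : b.out⁻¹ * x * b.out ∈ S := by rw [← smul_coe_eq_iff, QuotientGroup.out_eq']; exact hbx
    simp only [val, dif_pos hma, dif_pos hmb]
    -- `b.out = g a.out s` with `s ∈ S`
    have hs : ((g : H) * a.1.out)⁻¹ * b.out ∈ S := by
      rw [← QuotientGroup.eq, QuotientGroup.out_eq', hb, ← smul_eq_mul, ← MulAction.Quotient.smul_coe,
        QuotientGroup.out_eq']
    set s : S := ⟨_, hs⟩
    have hconj : (⟨b.out⁻¹ * x * b.out, hmb⟩ : S) = s⁻¹ * ⟨a.1.out⁻¹ * x * a.1.out, hma⟩ * s := by
      refine Subtype.ext ?_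
      show b.out⁻¹ * x * b.out = (((g : H) * a.1.out)⁻¹ * b.out)⁻¹ * (a.1.out⁻¹ * x * a.1.out) *
        (((g : H) * a.1.out)⁻¹ * b.out)
      calc b.out⁻¹ * x * b.out = b.out⁻¹ * (x * g) * ((g : H)⁻¹ * b.out) := by group
        _ = b.out⁻¹ * ((g : H) * x) * ((g : H)⁻¹ * b.out) := by rw [(hPx g g.2).eq]
        _ = _ := by group
    rw [hconj, map_mul, map_mul, map_inv, mul_right_comm, inv_mul_cancel, one_mul]
  · intro a ha
    have hm : a.1.out⁻¹ * x * a.1.out ∈ S := by rw [← smul_coe_eq_iff, QuotientGroup.out_eq']; exact a.2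
    simp only [val, dif_pos hm]
    refine hext _ (fun g hg => ?_) hm
    rw [← smul_coe_eq_iff, QuotientGroup.out_eq']
    exact congrArg Subtype.val (ha ⟨g, hg⟩)
  · have hmod := (Crit.isPGroup_zpowers_invol hx).card_modEq_card_fixedPoints (H ⧸ S)
    have e : Nat.card {a : H ⧸ S // x • a = a} = Nat.card (MulAction.fixedPoints (zpowers x) (H ⧸ S)) :=
      Nat.card_congr (Equiv.subtypeEquivRight fun a =>
        ⟨fun ha g => Crit.forall_zpowers_fix ha g g.2, fun ha => ha ⟨x, mem_zpowers x⟩⟩)
    rw [e, Nat.odd_iff, ← hmod, ← Nat.odd_iff]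
    exact hS

variable {G : Type u} [Group G] [Finite G] {M : Subgroup G} {z : G}

/-- **The residue of the criterion from extremal conjugates.** A character of a subgroup `S` of odd
index in `M`, equal to `-1` on the extremal conjugates of `x`, shows `x ∉ normalClosure {z}` when all
conjugates of `x` in `M` are conjugate in `M` and two members of `M` have product a member. -/
theorem Crit.not_mem_of_extremal (h : Crit M z) {x : G} (hxo : orderOf x = 2) (hxM : x ∈ M) {d v : G}
    (hd : IsConj z d) (hv : IsConj z v) (hdM : d ∈ M) (hvM : v ∈ M) (hdv : IsConj z (d * v))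
    (hclass : ∀ y : M, IsConj x (y : G) → IsConj (⟨x, hxM⟩ : M) y) {S : Subgroup M} (hS : Odd S.index)
    (χ : S →* ℤˣ) {P : Subgroup M} (hP : IsPGroup 2 P) (hxP : (⟨x, hxM⟩ : M) ∈ P)
    (hPx : ∀ g ∈ P, Commute g (⟨x, hxM⟩ : M))
    (hext : ∀ k : M, (∀ g ∈ P, k⁻¹ * g * k ∈ S) →
      ∀ hm : k⁻¹ * (⟨x, hxM⟩ : M) * k ∈ S, χ ⟨k⁻¹ * ⟨x, hxM⟩ * k, hm⟩ = -1) :
    x ∉ normalClosure ({z} : Set G) := by
  haveI : S.FiniteIndex := ⟨index_ne_zero_of_finite⟩
  have hxo' : orderOf (⟨x, hxM⟩ : M) = 2 := by rw [← orderOf_coe]; exact hxo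
  have hval := transfer_eq_neg_one hS χ hxo' hP hxP hPx hext
  refine h.not_mem_normalClosure hxo (MonoidHom.transfer χ) (h.char_eq_one _ hd hv hdM hvM hdv) fun y hy => ?_
  obtain ⟨k, hk⟩ := isConj_iff.1 (hclass y hy)
  rw [← hk, map_mul, map_mul, map_inv, mul_right_comm, mul_inv_cancel, one_mul, hval]

end CfsgLib.SECrit
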